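import Cfsg.Agent.Lib.Flavell.W6

/-! # From Flavell's theorem to iterated commutators with an automorphism (S3927)

`G = [G, α]` implies that the values of the `k`-th iterate of `c ↦ c * (α c)⁻¹` generate `G`.
We apply `flavell` to the subgroup `inr (zpowers α)` of `G ⋊ zpowers α`. -/

set_option autoImplicit false

namespace Cfsg.Agent.Lib.Flavell.AutGen

open scoped Pointwise
open Cfsg.Agent.Lib.Flavell Cfsg.Agent.Lib.Lead.Subnormal

universe u

variable {G : Type u} [Group G]

/-- the map `c ↦ c * (α c)⁻¹`. -/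
def th (α : MulAut G) (c : G) : G := c * (α c)⁻¹

theorem th_comm (α β : MulAut G) (h : α * β = β * α) (c : G) : th α (β c) = β (th α c) := by
  have h1 : α (β c) = β (α c) := by
    have := congrArg (fun f : MulAut G => f c) h
    simpa [MulAut.mul_apply] using this
  simp [th, h1, map_mul, map_inv]

theorem th_iter_comm (α β : MulAut G) (h : α * β = β * α) (k : ℕ) (c : G) :
    (th α)^[k] (β c) = β ((th α)^[k] c) := by
  induction k with
  | zero => rfl
  | succ k ih => rw [Function.iterate_succ_apply', Function.iterate_succ_apply', ih, th_comm α β h]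

theorem comm_of_mem_zpowers (α : MulAut G) {β : MulAut G} (hβ : β ∈ Subgroup.zpowers α) :
    α * β = β * α := by
  obtain ⟨j, rfl⟩ := Subgroup.mem_zpowers_iff.mp hβ
  exact ((Commute.refl α).zpow_right j).eq

/-- invariance of a subgroup under all of `zpowers α`. -/
def ZInv (α : MulAut G) (V : Subgroup G) : Prop :=
  ∀ β ∈ Subgroup.zpowers α, ∀ x ∈ V, β x ∈ V

theorem ZInv.iff {α : MulAut G} {V : Subgroup G} (hV : ZInv α V) {β : MulAut G}
    (hβ : β ∈ Subgroup.zpowers α) (x : G) : β x ∈ V ↔ x ∈ V := by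
  constructor
  · intro h
    have := hV β⁻¹ (inv_mem hβ) _ h
    simpa using this
  · exact hV β hβ x

theorem zinv_closure_iter (α : MulAut G) (k : ℕ) :
    ZInv α (Subgroup.closure (Set.range ((th α)^[k]))) := by
  intro β hβ x hx
  have hc := comm_of_mem_zpowers α hβ
  have : Subgroup.closure (Set.range ((th α)^[k])) ≤
      (Subgroup.closure (Set.range ((th α)^[k]))).comap β.toMonoidHom := by
    rw [Subgroup.closure_le]
    rintro _ ⟨c, rfl⟩
    simp only [SetLike.mem_coe, Subgroup.mem_comap, MulEquiv.coe_toMonoidHom]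
    rw [← th_iter_comm α β hc]
    exact Subgroup.subset_closure ⟨_, rfl⟩
  exact this hx

theorem th_mem {α : MulAut G} {V : Subgroup G} (hV : ZInv α V) {v : G} (hv : v ∈ V) :
    th α v ∈ V :=
  mul_mem hv (inv_mem (hV α (Subgroup.mem_zpowers α) v hv))

theorem zinv_closure_image {α : MulAut G} {V : Subgroup G} (hV : ZInv α V) :
    ZInv α (Subgroup.closure (th α '' (V : Set G))) := by
  intro β hβ x hx
  have hc := comm_of_mem_zpowers α hβ
  have : Subgroup.closure (th α '' (V : Set G)) ≤
      (Subgroup.closure (th α '' (V : Set G))).comap β.toMonoidHom := by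
    rw [Subgroup.closure_le]
    rintro _ ⟨v, hv, rfl⟩
    simp only [SetLike.mem_coe, Subgroup.mem_comap, MulEquiv.coe_toMonoidHom]
    rw [← th_comm α β hc]
    exact Subgroup.subset_closure ⟨_, hV β hβ v hv, rfl⟩
  exact this hx

theorem closure_image_le {α : MulAut G} {V : Subgroup G} (hV : ZInv α V) :
    Subgroup.closure (th α '' (V : Set G)) ≤ V := by
  rw [Subgroup.closure_le]
  rintro _ ⟨v, hv, rfl⟩
  exact th_mem hV hv

/-- `[V, α]` is normalized by `V`. -/
theorem conj_mem_closure_image {α : MulAut G} {V : Subgroup G} (hV : ZInv α V) {g w : G}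
    (hg : g ∈ V) (hw : w ∈ Subgroup.closure (th α '' (V : Set G))) :
    g * w * g⁻¹ ∈ Subgroup.closure (th α '' (V : Set G)) := by
  have : Subgroup.closure (th α '' (V : Set G)) ≤
      (Subgroup.closure (th α '' (V : Set G))).comap (MulAut.conj g).toMonoidHom := by
    rw [Subgroup.closure_le]
    rintro _ ⟨v, hv, rfl⟩
    simp only [SetLike.mem_coe, Subgroup.mem_comap, MulEquiv.coe_toMonoidHom, MulAut.conj_apply]
    have e : g * th α v * g⁻¹ = th α (g * v) * (th α g)⁻¹ := by
      simp only [th, map_mul, mul_inv_rev, inv_inv]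
      group
    rw [e]
    exact mul_mem (Subgroup.subset_closure ⟨_, mul_mem hg hv, rfl⟩)
      (inv_mem (Subgroup.subset_closure ⟨_, hg, rfl⟩))
  exact this hw

/-- `g * (β g)⁻¹ ∈ [V, α]` for `g ∈ V`, `β = α ^ j`. -/
theorem mul_pow_inv_mem {α : MulAut G} {V : Subgroup G} (hV : ZInv α V) (j : ℕ) :
    ∀ g ∈ V, g * ((α ^ j) g)⁻¹ ∈ Subgroup.closure (th α '' (V : Set G)) := by
  induction j with
  | zero => intro g _; simp
  | succ j ih =>
    intro g hg
    have hαg : α g ∈ V := hV α (Subgroup.mem_zpowers α) g hg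
    have e : g * ((α ^ (j + 1)) g)⁻¹ = th α g * (α g * ((α ^ j) (α g))⁻¹) := by
      rw [pow_succ, MulAut.mul_apply]
      simp only [th]
      group
    rw [e]
    exact mul_mem (Subgroup.subset_closure ⟨_, hg, rfl⟩) (ih _ hαg)

theorem mul_inv_mem [Finite G] {α : MulAut G} {V : Subgroup G} (hV : ZInv α V) {β : MulAut G}
    (hβ : β ∈ Subgroup.zpowers α) {g : G} (hg : g ∈ V) :
    g * (β g)⁻¹ ∈ Subgroup.closure (th α '' (V : Set G)) := by
  obtain ⟨j, rfl⟩ := (mem_powers_iff_mem_zpowers).mpr hβ
  exact mul_pow_inv_mem hV j g hg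

/-! ### restriction to an invariant subgroup -/

/-- the restriction of `α` to an invariant subgroup. -/
def restr (α : MulAut G) (V : Subgroup G) (hV : ZInv α V) : MulAut ↥V where
  toFun v := ⟨α v, hV α (Subgroup.mem_zpowers α) v v.2⟩
  invFun v := ⟨α⁻¹ v, hV α⁻¹ (inv_mem (Subgroup.mem_zpowers α)) v v.2⟩
  left_inv v := by ext; simp
  right_inv v := by ext; simp
  map_mul' v w := by ext; simp

theorem coe_th_restr (α : MulAut G) (V : Subgroup G) (hV : ZInv α V) (v : ↥V) :
    ((th (restr α V hV) v : ↥V) : G) = th α (v : G) := rfl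

theorem coe_th_restr_iter (α : MulAut G) (V : Subgroup G) (hV : ZInv α V) (k : ℕ) (v : ↥V) :
    (((th (restr α V hV))^[k] v : ↥V) : G) = (th α)^[k] (v : G) := by
  induction k with
  | zero => rfl
  | succ k ih =>
    rw [Function.iterate_succ_apply', Function.iterate_succ_apply', coe_th_restr, ih]

/-! ### the semidirect product -/

section semi

variable (α : MulAut G)

/-- `G ⋊ ⟨α⟩`. -/
abbrev HH : Type u := G ⋊[(Subgroup.zpowers α).subtype] ↥(Subgroup.zpowers α)

instance [Finite G] : Finite (HH α) :=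
  Finite.of_equiv _ (SemidirectProduct.equivProd (φ := (Subgroup.zpowers α).subtype)).symm

/-- the complement `⟨α⟩` inside `G ⋊ ⟨α⟩`. -/
def AA : Subgroup (HH α) := (SemidirectProduct.inr : ↥(Subgroup.zpowers α) →* HH α).range

/-- the generator. -/
def aa : HH α := SemidirectProduct.inr ⟨α, Subgroup.mem_zpowers α⟩

theorem aa_mem : aa α ∈ AA α := ⟨_, rfl⟩

variable {α}

/-- the subgroup `V ⋊ ⟨α⟩` for an invariant `V`. -/
def hat (V : Subgroup G) (hV : ZInv α V) : Subgroup (HH α) where
  carrier := {h | h.left ∈ V}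
  one_mem' := V.one_mem
  mul_mem' := by
    intro a b ha hb
    show (a * b).left ∈ V
    rw [SemidirectProduct.mul_left]
    exact mul_mem ha (hV _ a.right.2 _ hb)
  inv_mem' := by
    intro a ha
    show (a⁻¹).left ∈ V
    rw [SemidirectProduct.inv_left]
    exact hV _ (a.right⁻¹).2 _ (inv_mem ha)

theorem mem_hat {V : Subgroup G} {hV : ZInv α V} {h : HH α} : h ∈ hat V hV ↔ h.left ∈ V := Iff.rfl

theorem AA_le_hat (V : Subgroup G) (hV : ZInv α V) : AA α ≤ hat V hV := by
  rintro _ ⟨z, rfl⟩
  exact V.one_mem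

theorem hat_mono {V W : Subgroup G} {hV : ZInv α V} {hW : ZInv α W} (h : V ≤ W) :
    hat V hV ≤ hat W hW := fun _ hx => h hx

theorem hat_le_iff {V W : Subgroup G} {hV : ZInv α V} {hW : ZInv α W} :
    hat V hV ≤ hat W hW ↔ V ≤ W := by
  refine ⟨fun h v hv => ?_, hat_mono⟩
  have : (SemidirectProduct.inl v : HH α) ∈ hat V hV := hv
  exact h this

theorem hat_ne_top {V : Subgroup G} {hV : ZInv α V} (h : V ≠ ⊤) : hat V hV ≠ ⊤ := by
  intro h1
  apply h
  rw [eq_top_iff]
  intro g _
  have : (SemidirectProduct.inl g : HH α) ∈ hat V hV := h1 ▸ Subgroup.mem_top _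
  exact this

theorem inr_mem_of_le {X : Subgroup (HH α)} (hX : AA α ≤ X) (z : ↥(Subgroup.zpowers α)) :
    (SemidirectProduct.inr z : HH α) ∈ X := hX ⟨z, rfl⟩

theorem zinv_comap {X : Subgroup (HH α)} (hX : AA α ≤ X) :
    ZInv α (X.comap SemidirectProduct.inl) := by
  intro β hβ x hx
  show (SemidirectProduct.inl (β x) : HH α) ∈ X
  have e : (SemidirectProduct.inl (β x) : HH α) =
      SemidirectProduct.inr ⟨β, hβ⟩ * SemidirectProduct.inl x * SemidirectProduct.inr ⟨β, hβ⟩⁻¹ := by
    rw [← SemidirectProduct.inl_aut]; rfl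
  rw [e]
  exact mul_mem (mul_mem (inr_mem_of_le hX _) hx) (inr_mem_of_le hX _)

theorem eq_hat {X : Subgroup (HH α)} (hX : AA α ≤ X) :
    X = hat (X.comap SemidirectProduct.inl) (zinv_comap hX) := by
  ext h
  rw [mem_hat, Subgroup.mem_comap]
  have e : h = SemidirectProduct.inl h.left * SemidirectProduct.inr h.right :=
    (SemidirectProduct.inl_left_mul_inr_right h).symm
  constructor
  · intro hh
    have : SemidirectProduct.inl h.left = h * (SemidirectProduct.inr h.right)⁻¹ := by
      rw [eq_mul_inv_iff_mul_eq]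
      exact SemidirectProduct.inl_left_mul_inr_right h
    rw [this]
    exact mul_mem hh (inv_mem (inr_mem_of_le hX _))
  · intro hh
    rw [e]
    exact mul_mem hh (inr_mem_of_le hX _)

/-- key identity: `inl (th α g) = inl g * a * (inl g)⁻¹ * a⁻¹`. -/
theorem inl_th (g : G) : (SemidirectProduct.inl (th α g) : HH α) =
    SemidirectProduct.inl g * aa α * (SemidirectProduct.inl g)⁻¹ * (aa α)⁻¹ := by
  have h1 : (SemidirectProduct.inl (α g⁻¹) : HH α) =
      aa α * SemidirectProduct.inl g⁻¹ * (aa α)⁻¹ := by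
    have := SemidirectProduct.inl_aut (φ := (Subgroup.zpowers α).subtype)
      ⟨α, Subgroup.mem_zpowers α⟩ g⁻¹
    simpa [aa] using this
  have h2 : th α g = g * α g⁻¹ := by simp [th]
  rw [h2, map_mul, h1, map_inv]
  group

theorem normalClosure_AA (hG : Subgroup.closure (Set.range (th α)) = ⊤) :
    Subgroup.normalClosure ((AA α : Subgroup (HH α)) : Set (HH α)) = ⊤ := by
  set N := Subgroup.normalClosure ((AA α : Subgroup (HH α)) : Set (HH α)) with hN
  have hAN : AA α ≤ N := Subgroup.le_normalClosure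
  have hnorm : N.Normal := Subgroup.normalClosure_normal
  have h1 : N.comap SemidirectProduct.inl = ⊤ := by
    rw [eq_top_iff, ← hG, Subgroup.closure_le]
    rintro _ ⟨g, rfl⟩
    show (SemidirectProduct.inl (th α g) : HH α) ∈ N
    rw [inl_th]
    have ha : aa α ∈ N := hAN (aa_mem α)
    exact mul_mem (hnorm.conj_mem _ ha _) (inv_mem ha)
  rw [eq_hat hAN, eq_top_iff]
  intro h _
  rw [mem_hat, h1]
  exact Subgroup.mem_top _

end semi

/-! ### the main theorem -/

theorem le_normalizer_of_conj {H : Type*} [Group H] {X N : Subgroup H}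
    (h : ∀ x ∈ X, ∀ n ∈ N, x * n * x⁻¹ ∈ N) : X ≤ Subgroup.normalizer (N : Set H) := by
  intro x hx
  rw [Subgroup.mem_normalizer_iff]
  intro n
  refine ⟨h x hx n, fun hn => ?_⟩
  have := h x⁻¹ (inv_mem hx) _ hn
  simpa [mul_assoc] using this

/-- a proper `A`-perfect subgroup of `G ⋊ ⟨α⟩` comes from an invariant `V` with `V = [V, α]`. -/
theorem comap_le_closure_image [Finite G] {α : MulAut G} {X : Subgroup (HH α)}
    (hX : NPerf (AA α) X) :
    X.comap SemidirectProduct.inl ≤
      Subgroup.closure (th α '' ((X.comap SemidirectProduct.inl : Subgroup G) : Set G)) := by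
  have hAX := hX.1
  set V := X.comap (SemidirectProduct.inl : G →* HH α) with hVdef
  have hV : ZInv α V := zinv_comap hAX
  set W := Subgroup.closure (th α '' (V : Set G)) with hWdef
  have hW : ZInv α W := zinv_closure_image hV
  have hWV : W ≤ V := closure_image_le hV
  have hXV : X = hat V hV := eq_hat hAX
  have h1 : X ≤ hat W hW := by
    apply hX.2 (hat W hW) (AA_le_hat W hW)
    · rw [hXV]; exact hat_mono hWV
    · apply le_normalizer_of_conj
      intro x hx n hn
      rw [hXV, mem_hat] at hx
      rw [mem_hat] at hn ⊢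
      have e : (x * n * x⁻¹).left =
          (x.left * ((x.right : MulAut G) n.left) * x.left⁻¹) *
            (x.left * (((x.right * n.right * x.right⁻¹ : ↥(Subgroup.zpowers α)) : MulAut G) x.left)⁻¹) := by
        simp only [SemidirectProduct.mul_left, SemidirectProduct.mul_right,
          SemidirectProduct.inv_left, SemidirectProduct.inv_right, Subgroup.coe_subtype,
          map_mul, map_inv, MulAut.mul_apply, Subgroup.coe_mul, Subgroup.coe_inv,
          MulAut.apply_inv_self, MulAut.inv_apply_self]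
        group
      rw [e]
      refine mul_mem (conj_mem_closure_image hV hx (hW _ x.right.2 _ hn)) ?_
      exact mul_inv_mem hV (x.right * n.right * x.right⁻¹).2 hx
  intro v hv
  have : (SemidirectProduct.inl v : HH α) ∈ hat W hW := h1 hv
  exact this

theorem aut_gen_aux (n : ℕ) : ∀ (G : Type u) [Group G] [Finite G], Nat.card G = n →
    ∀ (α : MulAut G), Subgroup.closure (Set.range (th α)) = ⊤ → ∀ k : ℕ,
      Subgroup.closure (Set.range ((th α)^[k])) = ⊤ := by
  induction n using Nat.strong_induction_on with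
  | _ n ih =>
  intro G _ _ hcard α hG k
  by_contra hK
  set K := Subgroup.closure (Set.range ((th α)^[k])) with hKdef
  have hKinv : ZInv α K := zinv_closure_iter α k
  -- proper invariant `V = [V, α]` lie in `K`
  have step2 : ∀ V : Subgroup G, ZInv α V → V ≠ ⊤ →
      V ≤ Subgroup.closure (th α '' (V : Set G)) → V ≤ K := by
    intro V hV hVtop hVW
    have hlt : Nat.card ↥V < n := by
      rw [← hcard]
      exact lt_of_le_of_ne (Subgroup.card_le_card_group V)
        (fun h => hVtop ((Subgroup.card_eq_iff_eq_top V).mp h))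
    have hG' : Subgroup.closure (Set.range (th (restr α V hV))) = ⊤ := by
      apply Subgroup.map_injective V.subtype_injective
      rw [MonoidHom.map_closure, ← MonoidHom.range_eq_map, Subgroup.range_subtype]
      apply le_antisymm
      · rw [Subgroup.closure_le]
        rintro _ ⟨_, ⟨v, rfl⟩, rfl⟩
        exact (th (restr α V hV) v).2
      · refine hVW.trans (Subgroup.closure_mono ?_)
        rintro _ ⟨v, hv, rfl⟩
        exact ⟨_, ⟨⟨v, hv⟩, rfl⟩, rfl⟩
    have h3 := ih _ hlt ↥V rfl (restr α V hV) hG' k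
    have h4 : V = (Subgroup.closure (Set.range ((th (restr α V hV))^[k]))).map V.subtype := by
      rw [h3, ← MonoidHom.range_eq_map, Subgroup.range_subtype]
    rw [h4, MonoidHom.map_closure, Subgroup.closure_le]
    rintro _ ⟨_, ⟨v, rfl⟩, rfl⟩
    show ((((th (restr α V hV))^[k] v : ↥V)) : G) ∈ K
    rw [coe_th_restr_iter]
    exact Subgroup.subset_closure ⟨_, rfl⟩
  have hAncl := normalClosure_AA (α := α) hG
  have hAtop : AA α ≠ ⊤ := by
    intro h
    apply hK
    rw [eq_top_iff]
    intro g _
    have : (SemidirectProduct.inl g : HH α) ∈ AA α := h ▸ Subgroup.mem_top _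
    obtain ⟨z, hz⟩ := this
    have : g = 1 := by
      have := congrArg SemidirectProduct.left hz
      simpa using this.symm
    rw [this]; exact one_mem _
  have hKtop : hat K hKinv ≠ ⊤ := hat_ne_top hK
  rcases flavell (AA α) hAncl hAtop with hY | ⟨M, ⟨hMco, hAM⟩, hMuniq⟩
  · -- `YY A ≤ hat K`
    apply hKtop
    rw [eq_top_iff, ← hY]
    apply sSup_le
    rintro X ⟨hAX, hXtop, hXn⟩
    have hXp : NPerf (AA α) X := (nperf_iff hAX).mp hXn
    have hV : ZInv α (X.comap SemidirectProduct.inl) := zinv_comap hAX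
    have hle := comap_le_closure_image hXp
    have hVtop : X.comap (SemidirectProduct.inl : G →* HH α) ≠ ⊤ := by
      intro h
      apply hXtop
      rw [eq_hat hAX, eq_top_iff]
      intro x _
      rw [mem_hat, h]; exact Subgroup.mem_top _
    have := step2 _ hV hVtop hle
    rw [eq_hat hAX]
    exact hat_mono this
  · -- unique coatom
    have hKM : hat K hKinv ≤ M := by
      rcases eq_top_or_exists_le_coatom (hat K hKinv) with h | ⟨M', hM', hle⟩
      · exact absurd h hKtop
      · have := hMuniq M' ⟨hM', (AA_le_hat K hKinv).trans hle⟩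
        rw [← this]; exact hle
    set V := M.comap (SemidirectProduct.inl : G →* HH α) with hVdef
    have hV : ZInv α V := zinv_comap hAM
    have hMV : M = hat V hV := eq_hat hAM
    have hKV : K ≤ V := by
      rw [hMV] at hKM
      exact hat_le_iff.mp hKM
    have hVtop : V ≠ ⊤ := by
      intro h
      apply hMco.1
      rw [hMV, eq_top_iff]
      intro x _
      rw [mem_hat, h]; exact Subgroup.mem_top _
    obtain ⟨g, hg⟩ : ∃ g : G, g ∉ V := by
      by_contra h
      push_neg at h
      exact hVtop (eq_top_iff.mpr fun x _ => h x)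
    have hex : ∃ i : ℕ, (th α)^[i] g ∈ V := ⟨k, hKV (Subgroup.subset_closure ⟨g, rfl⟩)⟩
    classical
    set i := Nat.find hex with hi
    have hi1 : (th α)^[i] g ∈ V := Nat.find_spec hex
    have hi0 : i ≠ 0 := by
      intro h0
      rw [h0] at hi1
      exact hg hi1
    obtain ⟨j, hj⟩ := Nat.exists_eq_succ_of_ne_zero hi0
    have hju : (th α)^[j] g ∉ V := Nat.find_min hex (by omega)
    set u := (th α)^[j] g with hu
    have hthu : th α u ∈ V := by
      have : (th α)^[i] g = th α u := by
        rw [hj, Function.iterate_succ_apply']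
      rw [← this]; exact hi1
    -- `inl u` conjugates `a` into `M`
    set c : HH α := SemidirectProduct.inl u with hc
    have hcac : c * aa α * c⁻¹ ∈ M := by
      have h1 : (SemidirectProduct.inl (th α u) : HH α) ∈ M := hthu
      rw [inl_th] at h1
      have := mul_mem h1 (hAM (aa_mem α))
      simpa [mul_assoc] using this
    have hAconj : AA α ≤ MulAut.conj c⁻¹ • M := by
      rintro _ ⟨z, rfl⟩
      rw [Subgroup.mem_pointwise_smul_iff_inv_smul_mem]
      show (MulAut.conj c⁻¹)⁻¹ (SemidirectProduct.inr z) ∈ M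
      rw [← map_inv, inv_inv, MulAut.conj_apply]
      obtain ⟨m, hm⟩ := Subgroup.mem_zpowers_iff.mp z.2
      have hz : z = (⟨α, Subgroup.mem_zpowers α⟩ : ↥(Subgroup.zpowers α)) ^ m := by
        ext; simp [hm]
      have : c * SemidirectProduct.inr z * c⁻¹ = (c * aa α * c⁻¹) ^ m := by
        rw [hz, map_zpow, conj_zpow]; rfl
      rw [this]
      exact zpow_mem hcac m
    have hM' : MulAut.conj c⁻¹ • M = M :=
      hMuniq _ ⟨isCoatom_conj_smul c⁻¹ hMco, hAconj⟩
    have hcn : c ∈ Subgroup.normalizer (M : Set (HH α)) := by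
      rw [Subgroup.mem_normalizer_iff]
      intro h
      conv_lhs => rw [← hM']
      rw [Subgroup.mem_pointwise_smul_iff_inv_smul_mem]
      show (MulAut.conj c⁻¹)⁻¹ h ∈ M ↔ _
      rw [← map_inv, inv_inv, MulAut.conj_apply]
    have hnM : Subgroup.normalizer (M : Set (HH α)) = M := by
      rcases hMco.le_iff.mp (Subgroup.le_normalizer (H := M)) with h | h
      · exfalso
        have hMn : M.Normal := Subgroup.normalizer_eq_top_iff.mp h
        have : Subgroup.normalClosure ((AA α : Subgroup (HH α)) : Set (HH α)) ≤ M :=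
          Subgroup.normalClosure_le_normal hAM
        rw [hAncl] at this
        exact hMco.1 (eq_top_iff.mpr this)
      · exact h
    rw [hnM] at hcn
    exact hju hcn

theorem aut_gen [Finite G] (α : MulAut G)
    (hG : Subgroup.closure (Set.range (fun c : G => c * (α c)⁻¹)) = ⊤) (k : ℕ) :
    Subgroup.closure (Set.range ((fun c : G => c * (α c)⁻¹)^[k])) = ⊤ :=
  aut_gen_aux _ G rfl α hG k

end Cfsg.Agent.Lib.Flavell.AutGen
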