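import Mathlib
import Cfsg.Agent.Lib.Lead.Subnormal
import Cfsg.Agent.Lib.Lead.Subnormal2

/-!
# Flavell's theorem (S3947): definitions shared by all work items

Everything lives in `Cfsg.Agent.Lib.Flavell`.  `NPerf A H` is the subtype-free form of
"`A ≤ H` and the normal closure of `A` in `H` is `H`".
-/

set_option autoImplicit false

namespace Cfsg.Agent.Lib.Flavell

open scoped Pointwise

universe u

variable {G : Type u} [Group G]

/-- `A ≤ H` and every subgroup `N` of `H` containing `A` and normalized by `H` is `H`. -/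
def NPerf (A H : Subgroup G) : Prop :=
  A ≤ H ∧ ∀ N : Subgroup G, A ≤ N → N ≤ H → H ≤ Subgroup.normalizer (N : Set G) → H ≤ N

/-- The join in the statement of S3947. -/
def YY (A : Subgroup G) : Subgroup G :=
  sSup {H : Subgroup G | A ≤ H ∧ H ≠ ⊤ ∧
    Subgroup.normalClosure ((A.subgroupOf H : Subgroup ↥H) : Set ↥H) = ⊤}

/-- The conclusion of S3947. -/
def Concl (A : Subgroup G) : Prop :=
  YY A = ⊤ ∨ ∃! M : Subgroup G, IsCoatom M ∧ A ≤ M

/-- `A` is a counterexample in `G`. -/
structure Bad (A : Subgroup G) : Prop where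
  ncl : Subgroup.normalClosure (A : Set G) = ⊤
  ne_top : A ≠ ⊤
  not_concl : ¬ Concl A

/-- The theorem holds for all subgroups of larger order. -/
def MaxHyp (A : Subgroup G) : Prop :=
  ∀ B : Subgroup G, Nat.card ↥A < Nat.card ↥B →
    Subgroup.normalClosure (B : Set G) = ⊤ → B ≠ ⊤ → Concl B

/-- Relative subnormality: `A ⊓ X` is subnormal in `X` (used with `A ≤ X`). -/
abbrev RelSn (A X : Subgroup G) : Prop := (A.subgroupOf X).IsSubnormal

end Cfsg.Agent.Lib.Flavell
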