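import Cfsg.Agent.Lib.Flavell.W2

/-! # Ea: the abstract configuration `Data`, derived fact (3a), and Sublemma S -/

set_option autoImplicit false

namespace Cfsg.Agent.Lib.Flavell

open scoped Pointwise
open Cfsg.Agent.Lib.Lead.Subnormal

universe u

variable {G : Type u} [Group G]

/-- The abstract configuration of a minimal counterexample: `𝒜` = the bad subgroups of maximal
order, `star A` = the unique coatom above `YY A`. -/
structure Data (𝒜 : Set (Subgroup G)) (star : Subgroup G → Subgroup G) : Prop where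
  conj_mem : ∀ A ∈ 𝒜, ∀ g : G, MulAut.conj g • A ∈ 𝒜
  star_conj : ∀ A ∈ 𝒜, ∀ g : G, star (MulAut.conj g • A) = MulAut.conj g • star A
  ncl : ∀ A ∈ 𝒜, Subgroup.normalClosure (A : Set G) = ⊤
  star_coatom : ∀ A ∈ 𝒜, IsCoatom (star A)
  normalizer_le : ∀ A ∈ 𝒜, Subgroup.normalizer (A : Set G) ≤ star A
  star_selfnorm : ∀ A ∈ 𝒜, ∀ g : G, MulAut.conj g • star A = star A → g ∈ star A
  relSn : ∀ A ∈ 𝒜, ∀ X : Subgroup G, A ≤ X → X ≠ ⊤ → ¬ X ≤ star A → RelSn A X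
  eq_of_star : ∀ A ∈ 𝒜, ∀ B ∈ 𝒜, star A = star B → ∀ L : Subgroup G, IsCoatom L →
    L ≠ star A → A ≤ L → B ≤ L → A = B
  core : ∀ A ∈ 𝒜, ∀ N : Subgroup G, N.Normal → N ≤ star A → N = ⊥
  two : ∀ A ∈ 𝒜, ∃ K K' : Subgroup G, IsCoatom K ∧ IsCoatom K' ∧ K ≠ K' ∧ A ≤ K ∧ A ≤ K'

variable {𝒜 : Set (Subgroup G)} {star : Subgroup G → Subgroup G}

theorem Data.le_star (d : Data 𝒜 star) {A : Subgroup G} (hA : A ∈ 𝒜) : A ≤ star A :=
  Subgroup.le_normalizer.trans (d.normalizer_le A hA)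

theorem conj_smul_mono' (g : G) {A B : Subgroup G} (h : A ≤ B) :
    MulAut.conj g • A ≤ MulAut.conj g • B := by
  intro x hx
  rw [mem_conj_smul] at hx ⊢
  exact h hx

theorem conj_smul_le_of_mem' {A L : Subgroup G} (hAL : A ≤ L) {m : G} (hm : m ∈ L) :
    MulAut.conj m • A ≤ L := by
  intro x hx
  rw [mem_conj_smul] at hx
  have h1 := L.mul_mem (L.mul_mem hm (hAL hx)) (L.inv_mem hm)
  have e : m * (m⁻¹ * x * m) * m⁻¹ = x := by group
  rwa [e] at h1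

theorem conj_smul_sSup_le' (g : G) (𝔼 : Set (Subgroup G)) (T : Subgroup G)
    (h : ∀ B ∈ 𝔼, MulAut.conj g • B ≤ T) : MulAut.conj g • sSup 𝔼 ≤ T := by
  have h1 : sSup 𝔼 ≤ MulAut.conj g⁻¹ • T :=
    sSup_le (fun B hB => le_conj_inv_smul_of_conj_smul_le (h B hB))
  intro x hx
  rw [mem_conj_smul] at hx
  have h2 := h1 hx
  rw [mem_conj_smul] at h2
  have e : g⁻¹⁻¹ * (g⁻¹ * x * g) * g⁻¹ = x := by group
  rwa [e] at h2

/-- an `M`-conjugate (`M = star A`) of `A` inside `L` is `A`. -/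
theorem Data.conj_eq_of_le [Finite G] (d : Data 𝒜 star) {A L : Subgroup G} (hA : A ∈ 𝒜)
    (hL : IsCoatom L) (hLne : L ≠ star A) (hAL : A ≤ L) {m : G} (hm : m ∈ star A)
    (hmL : MulAut.conj m • A ≤ L) : MulAut.conj m • A = A := by
  have hB : MulAut.conj m • A ∈ 𝒜 := d.conj_mem A hA m
  have hs : star A = star (MulAut.conj m • A) := by
    rw [d.star_conj A hA m]
    exact (conj_smul_eq_of_mem_normalizer m (star A) (Subgroup.le_normalizer hm)).symm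
  exact (d.eq_of_star A hA _ hB hs L hL hLne hAL hmL).symm

/-- fact (3a): for a coatom `L ≠ star A` above `A`, `L ⊓ star A ≤ N(A)`. -/
theorem Data.inf_le_normalizer [Finite G] (d : Data 𝒜 star) {A L : Subgroup G} (hA : A ∈ 𝒜)
    (hL : IsCoatom L) (hLne : L ≠ star A) (hAL : A ≤ L) :
    L ⊓ star A ≤ Subgroup.normalizer (A : Set G) := by
  intro m hm
  have h1 : MulAut.conj m • A ≤ L := conj_smul_le_of_mem' hAL hm.1
  have h2 := d.conj_eq_of_le hA hL hLne hAL hm.2 h1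
  exact mem_normalizer_of_conj_smul_le m A h2.le

theorem Data.ne_bot [Finite G] (d : Data 𝒜 star) {A : Subgroup G} (hA : A ∈ 𝒜) : A ≠ ⊥ := by
  intro h
  have h1 := d.ncl A hA
  rw [h, Subgroup.normalClosure_eq_self] at h1
  apply (d.star_coatom A hA).1
  rw [← h1]
  exact le_bot_iff.mp (h1 ▸ le_top)

/-- The maximality property of the pair `(L, M)`: any two distinct coatoms containing a common
member of `𝒜` intersect in a subgroup of order at most `|L ⊓ M|`. -/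
def MaxPair (𝒜 : Set (Subgroup G)) (L M : Subgroup G) : Prop :=
  ∀ K K' : Subgroup G, IsCoatom K → IsCoatom K' → K ≠ K' → ∀ A ∈ 𝒜, A ≤ K ⊓ K' →
    Nat.card ↥(K ⊓ K' : Subgroup G) ≤ Nat.card ↥(L ⊓ M : Subgroup G)

theorem MaxPair.symm {L M : Subgroup G} (h : MaxPair 𝒜 L M) : MaxPair 𝒜 M L := by
  intro K K' hK hK' hne A hA hle
  rw [inf_comm M L]; exact h K K' hK hK' hne A hA hle

/-- (Z1): a subgroup `P` of the coatom `K` (`K = L` or `M` in applications; here just any coatom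
containing `L ⊓ M` and a member `A ∈ 𝒜`, `A ≤ L ⊓ M`) that contains `L ⊓ M` and an element
`x ∉ L ⊓ M`... lies in no other coatom.  Stated for `K`: if `L ⊓ M ≤ P`, `x ∈ P`, `x ∈ K`,
`x ∉ L ⊓ M`, `K' ` a coatom with `P ≤ K'`, then `K' = K`. -/
theorem MaxPair.unique_coatom [Finite G] {L M K K' P : Subgroup G} (h : MaxPair 𝒜 L M)
    {A : Subgroup G} (hA : A ∈ 𝒜) (hAD : A ≤ L ⊓ M) (hK : IsCoatom K) (hDK : L ⊓ M ≤ K)
    (hDP : L ⊓ M ≤ P) {x : G} (hxP : x ∈ P) (hxK : x ∈ K) (hxD : x ∉ L ⊓ M)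
    (hK' : IsCoatom K') (hPK' : P ≤ K') : K' = K := by
  by_contra hne
  have h1 : L ⊓ M ≤ K ⊓ K' := le_inf hDK (hDP.trans hPK')
  have h2 := h K K' hK hK' (Ne.symm hne) A hA (hAD.trans h1)
  have h3 : L ⊓ M < K ⊓ K' := by
    refine lt_of_le_of_ne h1 ?_
    intro heq
    apply hxD
    rw [heq]
    exact ⟨hxK, hPK' hxP⟩
  have h4 := card_lt_card_of_lt h3
  omega

/-- **Sublemma S.**  `K` a coatom containing `D := L ⊓ M` properly; `𝔼` a nonempty family of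
members of `𝒜`, all inside `D`, all subnormal in `K`, closed under those `K`-conjugations that
keep them inside `D`.  Let `R = sSup 𝔼`, `P = N_G(R)`.  Then `P ≤ K`, `K` is the only coatom
above `P`, `P` contains `D` and an element of `K ∖ D`, `P` permutes `𝔼`, and
`⨅ B ∈ 𝔼, N(B) ≤ P` is normalized by `P`. -/
theorem sublemmaS [Finite G] (d : Data 𝒜 star) {L M K : Subgroup G} (hmax : MaxPair 𝒜 L M)
    (hK : IsCoatom K) (hDK : L ⊓ M < K)
    (𝔼 : Set (Subgroup G)) (hne : 𝔼.Nonempty) (h𝒜 : ∀ B ∈ 𝔼, B ∈ 𝒜) (hD : ∀ B ∈ 𝔼, B ≤ L ⊓ M)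
    (hsn : ∀ B ∈ 𝔼, RelSn B K)
    (hclosed : ∀ B ∈ 𝔼, ∀ g ∈ K, MulAut.conj g • B ≤ L ⊓ M → MulAut.conj g • B ∈ 𝔼) :
    let P := Subgroup.normalizer ((sSup 𝔼 : Subgroup G) : Set G)
    P ≤ K ∧ (∀ K' : Subgroup G, IsCoatom K' → P ≤ K' → K' = K) ∧ L ⊓ M ≤ P ∧
      (∃ x ∈ P, x ∈ K ∧ x ∉ L ⊓ M) ∧
      (∀ B ∈ 𝔼, ∀ p ∈ P, MulAut.conj p • B ∈ 𝔼) ∧
      (⨅ B ∈ 𝔼, Subgroup.normalizer ((B : Subgroup G) : Set G)) ≤ P ∧
      P ≤ Subgroup.normalizer
        ((⨅ B ∈ 𝔼, Subgroup.normalizer ((B : Subgroup G) : Set G) : Subgroup G) : Set G) := by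
  intro P
  have hRD : sSup 𝔼 ≤ L ⊓ M := sSup_le hD
  have hRsn : RelSn (sSup 𝔼) K :=
    relSn_sSup 𝔼 (fun B hB => ⟨(hD B hB).trans hDK.le, hsn B hB⟩)
  -- (b)
  have hb : ∀ g ∈ K, MulAut.conj g • sSup 𝔼 ≤ L ⊓ M → g ∈ P := by
    intro g hg hgD
    apply mem_normalizer_of_conj_smul_le
    apply conj_smul_sSup_le'
    intro B hB
    have h1 : MulAut.conj g • B ≤ L ⊓ M := (conj_smul_mono' g (le_sSup hB)).trans hgD
    exact le_sSup (hclosed B hB g hg h1)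
  -- (c)
  have hc : L ⊓ M ≤ P := fun x hx => hb x (hDK.le hx) (conj_smul_le_of_mem' hRD hx)
  -- (d)
  have hd : ∃ x ∈ P, x ∈ K ∧ x ∉ L ⊓ M := by
    obtain ⟨x, hxK, hxD, hxR⟩ := lemmaW hRD hDK hRsn
    exact ⟨x, hb x hxK hxR, hxK, hxD⟩
  obtain ⟨B₀, hB₀⟩ := hne
  -- (e)
  have he : P ≠ ⊤ := by
    intro h
    have hRn : (sSup 𝔼 : Subgroup G).Normal := Subgroup.normalizer_eq_top_iff.mp h
    have h1 : Subgroup.normalClosure ((B₀ : Subgroup G) : Set G) ≤ sSup 𝔼 :=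
      Subgroup.normalClosure_le_normal (le_sSup hB₀)
    rw [d.ncl B₀ (h𝒜 B₀ hB₀)] at h1
    have h2 : (⊤ : Subgroup G) < K := lt_of_le_of_lt (h1.trans hRD) hDK
    exact not_top_lt h2
  -- (f)
  have hf : ∀ K' : Subgroup G, IsCoatom K' → P ≤ K' → K' = K := by
    intro K' hK' hPK'
    obtain ⟨x, hxP, hxK, hxD⟩ := hd
    exact hmax.unique_coatom (h𝒜 B₀ hB₀) (hD B₀ hB₀) hK hDK.le hc hxP hxK hxD hK' hPK'
  -- (g)
  have hg : P ≤ K := by
    rcases eq_top_or_exists_le_coatom P with h | ⟨K', hK', hle⟩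
    · exact absurd h he
    · rw [← hf K' hK' hle]; exact hle
  -- (h)
  have hh : ∀ B ∈ 𝔼, ∀ p ∈ P, MulAut.conj p • B ∈ 𝔼 := by
    intro B hB p hp
    apply hclosed B hB p (hg hp)
    have h1 : MulAut.conj p • B ≤ MulAut.conj p • sSup 𝔼 := conj_smul_mono' p (le_sSup hB)
    rw [conj_smul_eq_of_mem_normalizer p _ hp] at h1
    exact h1.trans hRD
  -- (i)
  have hi : (⨅ B ∈ 𝔼, Subgroup.normalizer ((B : Subgroup G) : Set G)) ≤ P := by
    intro n hn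
    apply mem_normalizer_of_conj_smul_le
    apply conj_smul_sSup_le'
    intro B hB
    have hnB : n ∈ Subgroup.normalizer ((B : Subgroup G) : Set G) :=
      (iInf₂_le B hB : (⨅ B ∈ 𝔼, Subgroup.normalizer ((B : Subgroup G) : Set G)) ≤ _) hn
    rw [conj_smul_eq_of_mem_normalizer n B hnB]
    exact le_sSup hB
  refine ⟨hg, hf, hc, hd, hh, hi, ?_⟩
  -- (j)
  intro p hp
  apply mem_normalizer_of_conj_smul_le
  intro x hx
  rw [mem_conj_smul] at hx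
  simp only [Subgroup.mem_iInf] at hx ⊢
  intro B hB
  have hB' : MulAut.conj p⁻¹ • B ∈ 𝔼 := hh B hB p⁻¹ (P.inv_mem hp)
  have hy := hx _ hB'
  apply mem_normalizer_of_conj_smul_le
  have e : x = p * (p⁻¹ * x * p) * p⁻¹ := by group
  rw [e, map_mul, map_mul, mul_smul, mul_smul,
    conj_smul_eq_of_mem_normalizer _ _ hy, conj_smul_conj_inv_smul]

end Cfsg.Agent.Lib.Flavell
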