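import Cfsg.Agent.Lib.Flavell.Ea

/-! # Eb: choice of the extremal pair and step (E1) -/

set_option autoImplicit false

namespace Cfsg.Agent.Lib.Flavell

open scoped Pointwise
open Cfsg.Agent.Lib.Lead.Subnormal

universe u

variable {G : Type u} [Group G]
variable {𝒜 : Set (Subgroup G)} {star : Subgroup G → Subgroup G}

/-- there is a pair of distinct coatoms over a common member of `𝒜` with `|L ⊓ M|` maximal. -/
theorem exists_maxPair [Finite G] (d : Data 𝒜 star) (hne : 𝒜.Nonempty) :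
    ∃ L M : Subgroup G, IsCoatom L ∧ IsCoatom M ∧ L ≠ M ∧ (∃ A ∈ 𝒜, A ≤ L ⊓ M) ∧
      MaxPair 𝒜 L M := by
  let T := {p : Subgroup G × Subgroup G // IsCoatom p.1 ∧ IsCoatom p.2 ∧ p.1 ≠ p.2 ∧
    ∃ A ∈ 𝒜, A ≤ p.1 ⊓ p.2}
  have hT : Nonempty T := by
    obtain ⟨A, hA⟩ := hne
    obtain ⟨K, K', hK, hK', hKK', hAK, hAK'⟩ := d.two A hA
    exact ⟨⟨(K, K'), hK, hK', hKK', A, hA, le_inf hAK hAK'⟩⟩
  obtain ⟨p, hp⟩ := Finite.exists_max (fun p : T => Nat.card ↥(p.1.1 ⊓ p.1.2 : Subgroup G))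
  refine ⟨p.1.1, p.1.2, p.2.1, p.2.2.1, p.2.2.2.1, p.2.2.2.2, ?_⟩
  intro K K' hK hK' hKK' A hA hle
  exact hp ⟨(K, K'), hK, hK', hKK', A, hA, hle⟩

theorem inf_lt_left_of_coatoms {L M : Subgroup G} (hL : IsCoatom L) (hM : IsCoatom M)
    (hLM : L ≠ M) : L ⊓ M < L := by
  refine lt_of_le_of_ne inf_le_left ?_
  intro h
  have h1 : L ≤ M := inf_eq_left.mp h
  rcases hL.le_iff.mp h1 with h2 | h2
  · exact hM.1 h2
  · exact hLM h2.symm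

/-- (E1): not every member of `𝒜` inside `D = L ⊓ M` is subnormal in both `L` and `M`. -/
theorem exists_not_relSn [Finite G] (d : Data 𝒜 star) {L M : Subgroup G}
    (hL : IsCoatom L) (hM : IsCoatom M) (hLM : L ≠ M) (hex : ∃ A ∈ 𝒜, A ≤ L ⊓ M)
    (hmax : MaxPair 𝒜 L M) :
    ∃ A ∈ 𝒜, A ≤ L ⊓ M ∧ (¬ RelSn A L ∨ ¬ RelSn A M) := by
  by_contra hcon
  have hall : ∀ A ∈ 𝒜, A ≤ L ⊓ M → RelSn A L ∧ RelSn A M := by
    intro A hA hAD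
    by_contra h
    apply hcon
    refine ⟨A, hA, hAD, ?_⟩
    by_cases h1 : RelSn A L
    · right; intro h2; exact h ⟨h1, h2⟩
    · left; exact h1
  obtain ⟨𝔻, h𝔻⟩ : ∃ 𝔻 : Set (Subgroup G), 𝔻 = {B | B ∈ 𝒜 ∧ B ≤ L ⊓ M} := ⟨_, rfl⟩
  have hmem : ∀ B, B ∈ 𝔻 ↔ (B ∈ 𝒜 ∧ B ≤ L ⊓ M) := by
    intro B; rw [h𝔻]; exact Iff.rfl
  have hne : 𝔻.Nonempty := by
    obtain ⟨A, hA, hAD⟩ := hex
    exact ⟨A, (hmem A).mpr ⟨hA, hAD⟩⟩
  have hDL : L ⊓ M < L := inf_lt_left_of_coatoms hL hM hLM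
  have hDM : L ⊓ M < M := by
    have := inf_lt_left_of_coatoms hM hL hLM.symm
    rwa [inf_comm] at this
  have h1 := sublemmaS d hmax hL hDL 𝔻 hne
    (fun B hB => ((hmem B).mp hB).1) (fun B hB => ((hmem B).mp hB).2)
    (fun B hB => (hall B ((hmem B).mp hB).1 ((hmem B).mp hB).2).1)
    (fun B hB g _ hgD => (hmem _).mpr ⟨d.conj_mem B ((hmem B).mp hB).1 g, hgD⟩)
  have h2 := sublemmaS d hmax hM hDM 𝔻 hne
    (fun B hB => ((hmem B).mp hB).1) (fun B hB => ((hmem B).mp hB).2)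
    (fun B hB => (hall B ((hmem B).mp hB).1 ((hmem B).mp hB).2).2)
    (fun B hB g _ hgD => (hmem _).mpr ⟨d.conj_mem B ((hmem B).mp hB).1 g, hgD⟩)
  obtain ⟨hPL, huL, -⟩ := h1
  obtain ⟨-, huM, -⟩ := h2
  rcases eq_top_or_exists_le_coatom
    (Subgroup.normalizer ((sSup 𝔻 : Subgroup G) : Set G)) with h | ⟨K', hK', hle⟩
  · rw [h] at hPL
    exact hL.1 (top_le_iff.mp hPL)
  · exact hLM ((huL K' hK' hle).symm.trans (huM K' hK' hle))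

end Cfsg.Agent.Lib.Flavell
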