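import Cfsg.Agent.Lib.Flavell.Eb

/-! # Ec: step (E2) and the final contradiction -/

set_option autoImplicit false

namespace Cfsg.Agent.Lib.Flavell

open scoped Pointwise
open Cfsg.Agent.Lib.Lead.Subnormal

universe u

variable {G : Type u} [Group G]
variable {𝒜 : Set (Subgroup G)} {star : Subgroup G → Subgroup G}

theorem coatom_eq_of_le {M K : Subgroup G} (hM : IsCoatom M) (hK : IsCoatom K) (h : M ≤ K) :
    M = K := by
  rcases hM.le_iff.mp h with h1 | h1
  · exact absurd h1 hK.1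
  · exact h1.symm

theorem conj_smul_eq_self_of_mem {M : Subgroup G} {g : G} (hg : g ∈ M) :
    MulAut.conj g • M = M :=
  conj_smul_eq_of_mem_normalizer g M (Subgroup.le_normalizer hg)

/-- first half of (E2), symmetric in the two sides. -/
theorem e2_side [Finite G] (d : Data 𝒜 star) {L M : Subgroup G}
    (hL : IsCoatom L) (hM : IsCoatom M) (hLM : L ≠ M)
    {A : Subgroup G} (hA : A ∈ 𝒜) (hAD : A ≤ L ⊓ M) (hnot : ¬ RelSn A M) :
    star A = M ∧ RelSn A L ∧ L ⊓ M ≤ Subgroup.normalizer (A : Set G) ∧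
    (∀ B ∈ 𝒜, B ≤ L ⊓ M → B ≠ A → RelSn B M) ∧
    (∃ B ∈ 𝒜, B ≤ L ⊓ M ∧ B ≠ A) ∧
    (∀ B ∈ 𝒜, B ≤ L ⊓ M → B ≠ A → ∀ g ∈ M, MulAut.conj g • B ≤ L ⊓ M →
      MulAut.conj g • B ≠ A) := by
  have hAL : A ≤ L := hAD.trans inf_le_left
  have hAM : A ≤ M := hAD.trans inf_le_right
  have hsM : star A = M := by
    by_contra hne
    apply hnot
    apply d.relSn A hA M hAM hM.1
    intro hle
    exact hne (coatom_eq_of_le hM (d.star_coatom A hA) hle).symm
  have hLne : L ≠ star A := by rw [hsM]; exact hLM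
  have hAsnL : RelSn A L := by
    apply d.relSn A hA L hAL hL.1
    intro hle
    exact hLne (coatom_eq_of_le hL (d.star_coatom A hA) hle)
  have hDN : L ⊓ M ≤ Subgroup.normalizer (A : Set G) := by
    have := d.inf_le_normalizer hA hL hLne hAL
    rwa [hsM] at this
  have hDL : L ⊓ M < L := by
    refine lt_of_le_of_ne inf_le_left ?_
    intro h
    exact hLM (coatom_eq_of_le hL hM (inf_eq_left.mp h))
  refine ⟨hsM, hAsnL, hDN, ?_, ?_, ?_⟩
  · intro B hB hBD hBA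
    by_contra hns
    have hBM : B ≤ M := hBD.trans inf_le_right
    have hsB : star B = M := by
      by_contra hne
      apply hns
      apply d.relSn B hB M hBM hM.1
      intro hle
      exact hne (coatom_eq_of_le hM (d.star_coatom B hB) hle).symm
    exact hBA (d.eq_of_star A hA B hB (hsM.trans hsB.symm) L hL hLne hAL
      (hBD.trans inf_le_left)).symm
  · obtain ⟨x, hxL, hxD, hxA⟩ := lemmaW hAD hDL hAsnL
    refine ⟨MulAut.conj x • A, d.conj_mem A hA x, hxA, ?_⟩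
    intro h
    apply hxD
    have hxN : x ∈ Subgroup.normalizer (A : Set G) :=
      mem_normalizer_of_conj_smul_le x A h.le
    have hxM : x ∈ M := by
      have := d.normalizer_le A hA hxN
      rwa [hsM] at this
    exact ⟨hxL, hxM⟩
  · intro B hB hBD hBA g hg hgD h
    apply hBA
    have hB' : B = MulAut.conj g⁻¹ • A := by
      rw [← h, conj_inv_smul_conj_smul]
    have hgs : g⁻¹ ∈ star A := by rw [hsM]; exact M.inv_mem hg
    have := d.conj_eq_of_le hA hL hLne hAL hgs (by rw [← hB']; exact hBD.trans inf_le_left)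
    rw [hB', this]

/-- if `Q` lies only in the coatom `M`, `Λ` only in the coatom `L ≠ M`, and both normalize `X`,
then `X` is normal. -/
theorem normal_of_two [Finite G] {L M Q Λ X : Subgroup G} (hLM : L ≠ M)
    (hQ : ∀ K' : Subgroup G, IsCoatom K' → Q ≤ K' → K' = M)
    (hΛ : ∀ K' : Subgroup G, IsCoatom K' → Λ ≤ K' → K' = L)
    (hQX : Q ≤ Subgroup.normalizer (X : Set G)) (hΛX : Λ ≤ Subgroup.normalizer (X : Set G)) :
    X.Normal := by
  rw [← Subgroup.normalizer_eq_top_iff]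
  rcases eq_top_or_exists_le_coatom (Subgroup.normalizer (X : Set G)) with h | ⟨K', hK', hle⟩
  · exact h
  · exact absurd ((hΛ K' hK' (hΛX.trans hle)).symm.trans (hQ K' hK' (hQX.trans hle))) hLM

/-- (E2): the main lemma.  `A ∈ 𝒜`, `A ≤ L ⊓ M`, `A` not subnormal in `M`: contradiction. -/
theorem e2_false [Finite G] (d : Data 𝒜 star) {L M : Subgroup G}
    (hL : IsCoatom L) (hM : IsCoatom M) (hLM : L ≠ M) (hmax : MaxPair 𝒜 L M)
    {A : Subgroup G} (hA : A ∈ 𝒜) (hAD : A ≤ L ⊓ M) (hnot : ¬ RelSn A M) : False := by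
  obtain ⟨hsM, hAsnL, hDN, hsn', hne', hcl'⟩ := e2_side d hL hM hLM hA hAD hnot
  have hDM : L ⊓ M < M := by
    refine lt_of_le_of_ne inf_le_right ?_
    intro h
    exact hLM (coatom_eq_of_le hM hL (inf_eq_right.mp h)).symm
  have hDL : L ⊓ M < L := by
    refine lt_of_le_of_ne inf_le_left ?_
    intro h
    exact hLM (coatom_eq_of_le hL hM (inf_eq_left.mp h))
  obtain ⟨𝔻', h𝔻'⟩ : ∃ 𝔻' : Set (Subgroup G), 𝔻' = {B | B ∈ 𝒜 ∧ B ≤ L ⊓ M ∧ B ≠ A} := ⟨_, rfl⟩
  have hmem' : ∀ B, B ∈ 𝔻' ↔ (B ∈ 𝒜 ∧ B ≤ L ⊓ M ∧ B ≠ A) := by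
    intro B; rw [h𝔻']; exact Iff.rfl
  have hS := sublemmaS d hmax hM hDM 𝔻'
    (by obtain ⟨B, h1, h2, h3⟩ := hne'; exact ⟨B, (hmem' B).mpr ⟨h1, h2, h3⟩⟩)
    (fun B hB => ((hmem' B).mp hB).1) (fun B hB => ((hmem' B).mp hB).2.1)
    (fun B hB => hsn' B ((hmem' B).mp hB).1 ((hmem' B).mp hB).2.1 ((hmem' B).mp hB).2.2)
    (fun B hB g hg hgD => (hmem' _).mpr ⟨d.conj_mem B ((hmem' B).mp hB).1 g, hgD,
      hcl' B ((hmem' B).mp hB).1 ((hmem' B).mp hB).2.1 ((hmem' B).mp hB).2.2 g hg hgD⟩)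
  obtain ⟨hQM, hQuniq, hDQ, -, hQperm, hN'Q, hQN'⟩ := hS
  obtain ⟨N', hN'def⟩ : ∃ N' : Subgroup G,
    N' = ⨅ B ∈ 𝔻', Subgroup.normalizer ((B : Subgroup G) : Set G) := ⟨_, rfl⟩
  rw [← hN'def] at hN'Q hQN'
  have hN'le : ∀ B ∈ 𝔻', N' ≤ Subgroup.normalizer ((B : Subgroup G) : Set G) := by
    intro B hB; rw [hN'def]; exact iInf₂_le B hB
  have hN'M : N' ≤ M := hN'Q.trans hQM
  -- the final step: `N' ≠ ⊥`
  have hRbot : sSup 𝔻' ≠ ⊥ := by
    obtain ⟨B, h1, h2, h3⟩ := hne'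
    intro h
    have : B ≤ sSup 𝔻' := le_sSup ((hmem' B).mpr ⟨h1, h2, h3⟩)
    rw [h, le_bot_iff] at this
    exact d.ne_bot h1 this
  have hRM : sSup 𝔻' ≤ M := sSup_le (fun B hB => ((hmem' B).mp hB).2.1.trans inf_le_right)
  obtain ⟨N, hNbot, hNR, hNnorm⟩ := exists_ne_bot_le_normalizer hRbot
  have hNN' : N ≤ N' := by
    rw [hN'def]
    refine le_iInf₂ (fun B hB => ?_)
    exact hNnorm B (le_sSup hB)
      (relSn_of_le (hsn' B ((hmem' B).mp hB).1 ((hmem' B).mp hB).2.1 ((hmem' B).mp hB).2.2) hRM)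
  -- `N'` is normal
  have hnormal : N'.Normal := by
    by_cases hall : ∀ B ∈ 𝒜, B ≤ L ⊓ M → RelSn B L
    · -- case (E2a)
      obtain ⟨𝔻, h𝔻⟩ : ∃ 𝔻 : Set (Subgroup G), 𝔻 = {B | B ∈ 𝒜 ∧ B ≤ L ⊓ M} := ⟨_, rfl⟩
      have hmem : ∀ B, B ∈ 𝔻 ↔ (B ∈ 𝒜 ∧ B ≤ L ⊓ M) := by
        intro B; rw [h𝔻]; exact Iff.rfl
      have hT := sublemmaS d hmax hL hDL 𝔻 ⟨A, (hmem A).mpr ⟨hA, hAD⟩⟩
        (fun B hB => ((hmem B).mp hB).1) (fun B hB => ((hmem B).mp hB).2)
        (fun B hB => hall B ((hmem B).mp hB).1 ((hmem B).mp hB).2)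
        (fun B hB g hg hgD => (hmem _).mpr ⟨d.conj_mem B ((hmem B).mp hB).1 g, hgD⟩)
      obtain ⟨hΛL, hΛuniq, hDΛ, -, hΛperm, hNΛ, hΛN⟩ := hT
      obtain ⟨Λ, hΛdef⟩ : ∃ Λ : Subgroup G,
        Λ = Subgroup.normalizer ((sSup 𝔻 : Subgroup G) : Set G) := ⟨_, rfl⟩
      rw [← hΛdef] at hΛL hΛuniq hDΛ hΛperm hNΛ hΛN
      -- `C`
      have hN'C : ∀ l ∈ Λ, N' ≤ MulAut.conj l • M := by
        intro l hl
        by_cases hlD : l ∈ L ⊓ M
        · rw [conj_smul_eq_self_of_mem hlD.2]; exact hN'M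
        · have h1 : MulAut.conj l • A ∈ 𝔻 := hΛperm A ((hmem A).mpr ⟨hA, hAD⟩) l hl
          have h2 : MulAut.conj l • A ≠ A := by
            intro h
            apply hlD
            have hlN := mem_normalizer_of_conj_smul_le l A h.le
            have hlM : l ∈ M := by
              have := d.normalizer_le A hA hlN
              rwa [hsM] at this
            exact ⟨hΛL hl, hlM⟩
          have h3 : MulAut.conj l • A ∈ 𝔻' :=
            (hmem' _).mpr ⟨((hmem _).mp h1).1, ((hmem _).mp h1).2, h2⟩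
          calc N' ≤ Subgroup.normalizer ((MulAut.conj l • A : Subgroup G) : Set G) :=
                hN'le _ h3
            _ ≤ star (MulAut.conj l • A) := d.normalizer_le _ ((hmem _).mp h1).1
            _ = MulAut.conj l • M := by rw [d.star_conj A hA l, hsM]
      obtain ⟨C, hCdef⟩ : ∃ C : Subgroup G, C = ⨅ l ∈ Λ, MulAut.conj l • M := ⟨_, rfl⟩
      have hN'C' : N' ≤ C := by rw [hCdef]; exact le_iInf₂ hN'C
      have hCM : C ≤ M := by
        rw [hCdef]
        refine (iInf₂_le (1 : G) (one_mem Λ)).trans ?_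
        rw [map_one, one_smul]
      have hΛC : Λ ≤ Subgroup.normalizer (C : Set G) := by
        intro μ hμ
        apply mem_normalizer_of_conj_smul_le
        intro x hx
        rw [mem_conj_smul, hCdef] at hx
        rw [hCdef]
        simp only [Subgroup.mem_iInf] at hx ⊢
        intro l hl
        have h1 := hx (μ⁻¹ * l) (Λ.mul_mem (Λ.inv_mem hμ) hl)
        rw [mem_conj_smul] at h1 ⊢
        have e : (μ⁻¹ * l)⁻¹ * (μ⁻¹ * x * μ) * (μ⁻¹ * l) = l⁻¹ * x * l := by group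
        rwa [e] at h1
      have hCL : C ≤ L := by
        rcases eq_top_or_exists_le_coatom (Subgroup.normalizer (C : Set G)) with h | ⟨K', hK', hle⟩
        · have hCn : C.Normal := Subgroup.normalizer_eq_top_iff.mp h
          have := d.core A hA C hCn (by rw [hsM]; exact hCM)
          rw [this]; exact bot_le
        · have := hΛuniq K' hK' (hΛC.trans hle)
          rw [← this]; exact Subgroup.le_normalizer.trans hle
      have hN'A : N' ≤ Subgroup.normalizer (A : Set G) :=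
        (le_inf (hN'C'.trans hCL) hN'M).trans hDN
      have hEq : N' = ⨅ B ∈ 𝔻, Subgroup.normalizer ((B : Subgroup G) : Set G) := by
        apply le_antisymm
        · refine le_iInf₂ (fun B hB => ?_)
          by_cases hBA : B = A
          · rw [hBA]; exact hN'A
          · exact hN'le B ((hmem' B).mpr ⟨((hmem B).mp hB).1, ((hmem B).mp hB).2, hBA⟩)
        · rw [hN'def]
          refine le_iInf₂ (fun B hB => ?_)
          exact iInf₂_le B ((hmem B).mpr ⟨((hmem' B).mp hB).1, ((hmem' B).mp hB).2.1⟩)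
      rw [← hEq] at hΛN
      exact normal_of_two hLM hQuniq hΛuniq hQN' hΛN
    · -- case (E2b)
      push Not at hall
      obtain ⟨B₁, hB₁, hB₁D, hB₁not⟩ := hall
      have hB₁D' : B₁ ≤ M ⊓ L := by rwa [inf_comm]
      obtain ⟨hsL, -, hDN₁, hsn'', hne'', hcl''⟩ :=
        e2_side d hM hL hLM.symm hB₁ hB₁D' hB₁not
      have hB₁A : B₁ ≠ A := by
        intro h; rw [h] at hB₁not; exact hB₁not hAsnL
      have hDL' : M ⊓ L < L := by rwa [inf_comm]
      obtain ⟨𝔻'', h𝔻''⟩ : ∃ 𝔻'' : Set (Subgroup G),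
        𝔻'' = {B | B ∈ 𝒜 ∧ B ≤ M ⊓ L ∧ B ≠ B₁} := ⟨_, rfl⟩
      have hmem'' : ∀ B, B ∈ 𝔻'' ↔ (B ∈ 𝒜 ∧ B ≤ M ⊓ L ∧ B ≠ B₁) := by
        intro B; rw [h𝔻'']; exact Iff.rfl
      have hT := sublemmaS d hmax.symm hL hDL' 𝔻''
        (by obtain ⟨B, h1, h2, h3⟩ := hne''; exact ⟨B, (hmem'' B).mpr ⟨h1, h2, h3⟩⟩)
        (fun B hB => ((hmem'' B).mp hB).1) (fun B hB => ((hmem'' B).mp hB).2.1)
        (fun B hB => hsn'' B ((hmem'' B).mp hB).1 ((hmem'' B).mp hB).2.1 ((hmem'' B).mp hB).2.2)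
        (fun B hB g hg hgD => (hmem'' _).mpr ⟨d.conj_mem B ((hmem'' B).mp hB).1 g, hgD,
          hcl'' B ((hmem'' B).mp hB).1 ((hmem'' B).mp hB).2.1 ((hmem'' B).mp hB).2.2 g hg hgD⟩)
      obtain ⟨hΛL, hΛuniq, -, -, -, hNΛ, hΛN⟩ := hT
      obtain ⟨N'', hN''def⟩ : ∃ N'' : Subgroup G,
        N'' = ⨅ B ∈ 𝔻'', Subgroup.normalizer ((B : Subgroup G) : Set G) := ⟨_, rfl⟩
      rw [← hN''def] at hNΛ hΛN
      have hN''le : ∀ B ∈ 𝔻'', N'' ≤ Subgroup.normalizer ((B : Subgroup G) : Set G) := by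
        intro B hB; rw [hN''def]; exact iInf₂_le B hB
      have hN'A : N' ≤ Subgroup.normalizer (A : Set G) := by
        have h1 : N' ≤ L := by
          have := (hN'le B₁ ((hmem' B₁).mpr ⟨hB₁, hB₁D, hB₁A⟩)).trans (d.normalizer_le B₁ hB₁)
          rwa [hsL] at this
        exact (le_inf h1 hN'M).trans hDN
      have hN''B₁ : N'' ≤ Subgroup.normalizer (B₁ : Set G) := by
        have h1 : N'' ≤ M := by
          have := (hN''le A ((hmem'' A).mpr ⟨hA, by rwa [inf_comm], hB₁A.symm⟩)).trans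
            (d.normalizer_le A hA)
          rwa [hsM] at this
        exact (le_inf h1 (hNΛ.trans hΛL)).trans hDN₁
      have hEq : N' = N'' := by
        apply le_antisymm
        · rw [hN''def]
          refine le_iInf₂ (fun B hB => ?_)
          by_cases hBA : B = A
          · rw [hBA]; exact hN'A
          · exact hN'le B ((hmem' B).mpr ⟨((hmem'' B).mp hB).1,
              by rw [inf_comm]; exact ((hmem'' B).mp hB).2.1, hBA⟩)
        · rw [hN'def]
          refine le_iInf₂ (fun B hB => ?_)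
          by_cases hBB : B = B₁
          · rw [hBB]; exact hN''B₁
          · exact hN''le B ((hmem'' B).mpr ⟨((hmem' B).mp hB).1,
              by rw [inf_comm]; exact ((hmem' B).mp hB).2.1, hBB⟩)
      rw [← hEq] at hΛN
      exact normal_of_two hLM hQuniq hΛuniq hQN' hΛN
  have hN'bot : N' = ⊥ := d.core A hA N' hnormal (by rw [hsM]; exact hN'M)
  rw [hN'bot, le_bot_iff] at hNN'
  exact hNbot hNN'

theorem Data.false [Finite G] (d : Data 𝒜 star) (hne : 𝒜.Nonempty) : False := by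
  obtain ⟨L, M, hL, hM, hLM, hex, hmax⟩ := exists_maxPair d hne
  obtain ⟨A, hA, hAD, h | h⟩ := exists_not_relSn d hL hM hLM hex hmax
  · exact e2_false d hM hL (Ne.symm hLM) hmax.symm hA (by rwa [inf_comm]) h
  · exact e2_false d hL hM hLM hmax hA hAD h

end Cfsg.Agent.Lib.Flavell
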