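import Cfsg.Agent.Lib.Flavell.Defs

/-! # W1: bridge between `normalClosure (A.subgroupOf H) = ⊤` and `NPerf`; conjugation invariance -/

set_option autoImplicit false

namespace Cfsg.Agent.Lib.Flavell

open scoped Pointwise
open Cfsg.Agent.Lib.Lead.Subnormal

universe u

variable {G : Type u} [Group G]

theorem W1_le_normalizer_inf {B N : Subgroup G}
    (h : B ≤ Subgroup.normalizer (N : Set G)) :
    B ≤ Subgroup.normalizer ((B ⊓ N : Subgroup G) : Set G) := by
  intro b hb
  have hbN : b ∈ Subgroup.normalizer (N : Set G) := h hb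
  rw [Subgroup.mem_normalizer_iff] at hbN ⊢
  intro x
  constructor
  · rintro ⟨hxB, hxN⟩
    exact ⟨B.mul_mem (B.mul_mem hb hxB) (B.inv_mem hb), (hbN x).mp hxN⟩
  · rintro ⟨hxB, hxN⟩
    refine ⟨?_, (hbN x).mpr hxN⟩
    have := B.mul_mem (B.mul_mem (B.inv_mem hb) hxB) hb
    have e : b⁻¹ * (b * x * b⁻¹) * b = x := by group
    rwa [e] at this

theorem nperf_iff {A H : Subgroup G} (hAH : A ≤ H) :
    Subgroup.normalClosure ((A.subgroupOf H : Subgroup ↥H) : Set ↥H) = ⊤ ↔ NPerf A H := by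
  constructor
  · intro h
    refine ⟨hAH, ?_⟩
    intro N hAN hNH hHN
    have hNn : (N.subgroupOf H).Normal :=
      (Subgroup.normal_subgroupOf_iff_le_normalizer hNH).mpr hHN
    have hle : Subgroup.normalClosure ((A.subgroupOf H : Subgroup ↥H) : Set ↥H) ≤
        N.subgroupOf H := by
      apply Subgroup.normalClosure_le_normal
      intro x hx
      exact hAN hx
    rw [h] at hle
    intro x hx
    exact hle (Subgroup.mem_top (⟨x, hx⟩ : ↥H))
  · intro h
    set K := Subgroup.normalClosure ((A.subgroupOf H : Subgroup ↥H) : Set ↥H) with hK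
    have hNH : K.map H.subtype ≤ H := Subgroup.map_subtype_le K
    have hsub : (K.map H.subtype).subgroupOf H = K :=
      Subgroup.comap_map_eq_self_of_injective H.subtype_injective K
    have hAN : A ≤ K.map H.subtype := by
      intro x hx
      refine ⟨⟨x, hAH hx⟩, ?_, rfl⟩
      exact Subgroup.subset_normalClosure hx
    have hHN : H ≤ Subgroup.normalizer ((K.map H.subtype : Subgroup G) : Set G) := by
      rw [← Subgroup.normal_subgroupOf_iff_le_normalizer hNH, hsub]
      exact Subgroup.normalClosure_normal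
    have hHle := h.2 _ hAN hNH hHN
    rw [eq_top_iff]
    intro x _
    obtain ⟨y, hy, hyx⟩ := hHle x.2
    have : y = x := Subtype.ext hyx
    rw [← this]; exact hy

theorem nperf_top_iff (A : Subgroup G) :
    NPerf A ⊤ ↔ Subgroup.normalClosure (A : Set G) = ⊤ := by
  constructor
  · intro h
    rw [eq_top_iff]
    apply h.2 _ Subgroup.le_normalClosure le_top
    rw [Subgroup.normalizer_eq_top]
  · intro h
    refine ⟨le_top, ?_⟩
    intro N hAN _ hN
    have hNn : N.Normal := Subgroup.normalizer_eq_top_iff.mp (top_le_iff.mp hN)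
    rw [← h]
    exact Subgroup.normalClosure_le_normal hAN

theorem YY_eq (A : Subgroup G) : YY A = sSup {H : Subgroup G | NPerf A H ∧ H ≠ ⊤} := by
  unfold YY
  congr 1
  ext H
  constructor
  · rintro ⟨h1, h2, h3⟩
    exact ⟨(nperf_iff h1).mp h3, h2⟩
  · rintro ⟨h1, h2⟩
    exact ⟨h1.1, h2, (nperf_iff h1.1).mpr h1⟩

theorem nperf_self (A : Subgroup G) : NPerf A A :=
  ⟨le_rfl, fun _ hAN _ _ => hAN⟩

theorem nperf_sSup (A : Subgroup G) (S : Set (Subgroup G)) (hne : S.Nonempty)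
    (h : ∀ H ∈ S, NPerf A H) : NPerf A (sSup S) := by
  obtain ⟨H₀, hH₀⟩ := hne
  refine ⟨(h H₀ hH₀).1.trans (le_sSup hH₀), ?_⟩
  intro N hAN _ hYN
  apply sSup_le
  intro H hH
  have h1 : H ≤ H ⊓ N :=
    (h H hH).2 (H ⊓ N) (le_inf (h H hH).1 hAN) inf_le_left
      (W1_le_normalizer_inf ((le_sSup hH).trans hYN))
  exact h1.trans inf_le_right

/-- `B` is `A`-perfect and `H` is `B`-perfect, then `H` is `A`-perfect. -/
theorem nperf_trans {A B H : Subgroup G} (h1 : NPerf A B) (h2 : NPerf B H) : NPerf A H := by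
  refine ⟨h1.1.trans h2.1, ?_⟩
  intro N hAN hNH hHN
  have hBN : B ≤ N := by
    have h3 : B ≤ B ⊓ N := by
      apply h1.2 (B ⊓ N) (le_inf h1.1 hAN) inf_le_left
      intro b hb
      have hbN : b ∈ Subgroup.normalizer (N : Set G) := hHN (h2.1 hb)
      rw [Subgroup.mem_normalizer_iff] at hbN ⊢
      intro x
      constructor
      · rintro ⟨hxB, hxN⟩
        exact ⟨B.mul_mem (B.mul_mem hb hxB) (B.inv_mem hb), (hbN x).mp hxN⟩
      · rintro ⟨hxB, hxN⟩
        refine ⟨?_, (hbN x).mpr hxN⟩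
        have := B.mul_mem (B.mul_mem (B.inv_mem hb) hxB) hb
        have e : b⁻¹ * (b * x * b⁻¹) * b = x := by group
        rwa [e] at this
    exact h3.trans inf_le_right
  exact h2.2 N hBN hNH hHN

/-! ### conjugation block (lead) -/

theorem W1_conj_smul_mono (g : G) {A B : Subgroup G} (h : A ≤ B) :
    MulAut.conj g • A ≤ MulAut.conj g • B := by
  intro x hx
  rw [mem_conj_smul] at hx ⊢
  exact h hx

theorem W1_conj_smul_top (g : G) : MulAut.conj g • (⊤ : Subgroup G) = ⊤ := by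
  rw [eq_top_iff]
  intro x _
  rw [mem_conj_smul]
  exact Subgroup.mem_top _

theorem W1_conj_smul_ne_top (g : G) {H : Subgroup G} (h : H ≠ ⊤) :
    MulAut.conj g • H ≠ ⊤ := by
  intro h1
  apply h
  have h2 : MulAut.conj g⁻¹ • (MulAut.conj g • H) = MulAut.conj g⁻¹ • ⊤ := by rw [h1]
  rwa [conj_inv_smul_conj_smul, W1_conj_smul_top] at h2

theorem W1_mem_normalizer_conj_smul (g x : G) (N : Subgroup G) :
    x ∈ Subgroup.normalizer ((MulAut.conj g • N : Subgroup G) : Set G) ↔
      g⁻¹ * x * g ∈ Subgroup.normalizer (N : Set G) := by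
  rw [Subgroup.mem_normalizer_iff, Subgroup.mem_normalizer_iff]
  constructor
  · intro h w
    have h1 := h (g * w * g⁻¹)
    rw [mem_conj_smul, mem_conj_smul] at h1
    have e1 : g⁻¹ * (g * w * g⁻¹) * g = w := by group
    have e2 : g⁻¹ * (x * (g * w * g⁻¹) * x⁻¹) * g = g⁻¹ * x * g * w * (g⁻¹ * x * g)⁻¹ := by
      group
    rw [e1, e2] at h1
    exact h1
  · intro h z
    have h1 := h (g⁻¹ * z * g)
    rw [mem_conj_smul, mem_conj_smul]
    have e2 : g⁻¹ * (x * z * x⁻¹) * g = g⁻¹ * x * g * (g⁻¹ * z * g) * (g⁻¹ * x * g)⁻¹ := by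
      group
    rw [e2]
    exact h1

theorem W1_le_normalizer_conj (g : G) {H N : Subgroup G}
    (h : H ≤ Subgroup.normalizer (N : Set G)) :
    MulAut.conj g • H ≤ Subgroup.normalizer ((MulAut.conj g • N : Subgroup G) : Set G) := by
  intro x hx
  rw [mem_conj_smul] at hx
  rw [W1_mem_normalizer_conj_smul]
  exact h hx

theorem nperf_conj (g : G) {A H : Subgroup G} (h : NPerf A H) :
    NPerf (MulAut.conj g • A) (MulAut.conj g • H) := by
  refine ⟨W1_conj_smul_mono g h.1, ?_⟩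
  intro N hAN hNH hHN
  have h1 : A ≤ MulAut.conj g⁻¹ • N := le_conj_inv_smul_of_conj_smul_le hAN
  have h2 : MulAut.conj g⁻¹ • N ≤ H := by
    have := W1_conj_smul_mono g⁻¹ hNH
    rwa [conj_inv_smul_conj_smul] at this
  have h3 : H ≤ Subgroup.normalizer ((MulAut.conj g⁻¹ • N : Subgroup G) : Set G) := by
    have := W1_le_normalizer_conj g⁻¹ hHN
    rwa [conj_inv_smul_conj_smul] at this
  have h4 := W1_conj_smul_mono g (h.2 _ h1 h2 h3)
  rwa [conj_smul_conj_inv_smul] at h4

theorem YY_conj (g : G) (A : Subgroup G) : YY (MulAut.conj g • A) = MulAut.conj g • YY A := by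
  rw [YY_eq, YY_eq]
  apply le_antisymm
  · apply sSup_le
    rintro H ⟨hH, hHtop⟩
    have h1 : NPerf A (MulAut.conj g⁻¹ • H) := by
      have := nperf_conj g⁻¹ hH
      rwa [conj_inv_smul_conj_smul] at this
    have h2 : MulAut.conj g⁻¹ • H ≤ sSup {H : Subgroup G | NPerf A H ∧ H ≠ ⊤} :=
      le_sSup ⟨h1, W1_conj_smul_ne_top g⁻¹ hHtop⟩
    have h3 := W1_conj_smul_mono g h2
    rwa [conj_smul_conj_inv_smul] at h3
  · have h1 : sSup {H : Subgroup G | NPerf A H ∧ H ≠ ⊤} ≤
        MulAut.conj g⁻¹ • sSup {H : Subgroup G | NPerf (MulAut.conj g • A) H ∧ H ≠ ⊤} := by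
      apply sSup_le
      rintro H ⟨hH, hHtop⟩
      apply le_conj_inv_smul_of_conj_smul_le
      exact le_sSup ⟨nperf_conj g hH, W1_conj_smul_ne_top g hHtop⟩
    have h2 := W1_conj_smul_mono g h1
    rwa [conj_smul_conj_inv_smul] at h2

theorem W1_concl_conj_imp [Finite G] (g : G) (A : Subgroup G) (h : Concl A) :
    Concl (MulAut.conj g • A) := by
  rcases h with h | ⟨M, ⟨hM, hAM⟩, huniq⟩
  · left
    rw [YY_conj, h, W1_conj_smul_top]
  · right
    refine ⟨MulAut.conj g • M, ⟨isCoatom_conj_smul g hM, W1_conj_smul_mono g hAM⟩, ?_⟩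
    rintro K ⟨hK, hgAK⟩
    have h1 := huniq (MulAut.conj g⁻¹ • K)
      ⟨isCoatom_conj_smul g⁻¹ hK, le_conj_inv_smul_of_conj_smul_le hgAK⟩
    rw [← h1, conj_smul_conj_inv_smul]

theorem concl_conj [Finite G] (g : G) (A : Subgroup G) : Concl (MulAut.conj g • A) ↔ Concl A := by
  constructor
  · intro h
    have := W1_concl_conj_imp g⁻¹ _ h
    rwa [conj_inv_smul_conj_smul] at this
  · exact W1_concl_conj_imp g A

theorem bad_conj [Finite G] (g : G) {A : Subgroup G} (h : Bad A) : Bad (MulAut.conj g • A) := by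
  refine ⟨?_, W1_conj_smul_ne_top g h.ne_top, fun hc => h.not_concl ((concl_conj g A).mp hc)⟩
  rw [eq_top_iff, ← h.ncl]
  apply Subgroup.normalClosure_le_normal
  intro x hx
  have h1 : g * x * g⁻¹ ∈ Subgroup.normalClosure ((MulAut.conj g • A : Subgroup G) : Set G) :=
    Subgroup.subset_normalClosure (conj_mem_conj_smul g x A hx)
  have h2 := (Subgroup.normalClosure_normal
    (s := ((MulAut.conj g • A : Subgroup G) : Set G))).conj_mem _ h1 g⁻¹
  have e : g⁻¹ * (g * x * g⁻¹) * g⁻¹⁻¹ = x := by group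
  rwa [e] at h2

theorem maxHyp_conj (g : G) {A : Subgroup G} (h : MaxHyp A) : MaxHyp (MulAut.conj g • A) := by
  intro B hlt hncl hne
  rw [card_conj_smul] at hlt
  exact h B hlt hncl hne

/-- `A ≤ YY A` when `A` is proper (`A` itself is one of the generators). -/
theorem le_YY {A : Subgroup G} (hA : A ≠ ⊤) : A ≤ YY A := by
  rw [YY_eq]; exact le_sSup ⟨nperf_self A, hA⟩

/-- `YY A` is `A`-perfect when `A` is proper. -/
theorem nperf_YY {A : Subgroup G} (hA : A ≠ ⊤) : NPerf A (YY A) := by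
  rw [YY_eq]; exact nperf_sSup A _ ⟨A, nperf_self A, hA⟩ (fun H hH => hH.1)

/-- every proper `A`-perfect subgroup lies in `YY A`. -/
theorem le_YY_of_nperf {A K : Subgroup G} (h : NPerf A K) (hK : K ≠ ⊤) : K ≤ YY A := by
  rw [YY_eq]; exact le_sSup ⟨h, hK⟩

end Cfsg.Agent.Lib.Flavell
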