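import Cfsg.Agent.Lib.Flavell.W1

/-! # W2: relative subnormality API, the perfect core, Lemma W -/

set_option autoImplicit false

namespace Cfsg.Agent.Lib.Flavell

open scoped Pointwise
open Cfsg.Agent.Lib.Lead.Subnormal

universe u

variable {G : Type u} [Group G]

theorem relSn_trans {A B C : Subgroup G} (hAB : A ≤ B) (hBC : B ≤ C)
    (h1 : RelSn A B) (h2 : RelSn B C) : RelSn A C := by
  have hle : (B.subgroupOf C).map C.subtype ≤ B := by
    rw [Subgroup.map_subgroupOf_eq_of_le hBC]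
  have h3 : ((A.subgroupOf C).subgroupOf (B.subgroupOf C)).IsSubnormal :=
    isSubnormal_restrict h1 C (B.subgroupOf C) hle
  have h4 : A.subgroupOf C ≤ B.subgroupOf C := by
    intro x hx
    rw [Subgroup.mem_subgroupOf] at hx ⊢
    exact hAB hx
  exact Subgroup.IsSubnormal.trans h4 h3 h2

theorem relSn_of_le_normalizer {A B : Subgroup G} (hAB : A ≤ B)
    (h : B ≤ Subgroup.normalizer (A : Set G)) : RelSn A B :=
  ((Subgroup.normal_subgroupOf_iff_le_normalizer hAB).mpr h).isSubnormal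

/-- restriction: `A sn B`, `C ≤ B` gives `A ⊓ C sn C` (use with `A ≤ C`). -/
theorem relSn_of_le {A B C : Subgroup G} (h : RelSn A B) (hCB : C ≤ B) : RelSn A C :=
  isSubnormal_of_le h hCB

theorem relSn_conj {A X : Subgroup G} (h : RelSn A X) (g : G) :
    RelSn (MulAut.conj g • A) (MulAut.conj g • X) :=
  isSubnormal_conj h g

theorem relSn_sup [Finite G] {A B X : Subgroup G} (hA : A ≤ X) (hB : B ≤ X)
    (h1 : RelSn A X) (h2 : RelSn B X) : RelSn (A ⊔ B) X := by
  show ((A ⊔ B).subgroupOf X).IsSubnormal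
  rw [Subgroup.subgroupOf_sup hA hB]
  exact sup_isSubnormal h1 h2

theorem relSn_sSup [Finite G] {X : Subgroup G} (S : Set (Subgroup G))
    (h : ∀ B ∈ S, B ≤ X ∧ RelSn B X) : RelSn (sSup S) X := by
  have hfin : S.Finite := S.toFinite
  have key : sSup S ≤ X ∧ RelSn (sSup S) X := by
    induction S, hfin using Set.Finite.induction_on with
    | empty =>
      rw [sSup_empty]
      refine ⟨bot_le, ?_⟩
      show ((⊥ : Subgroup G).subgroupOf X).IsSubnormal
      rw [Subgroup.bot_subgroupOf]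
      exact Subgroup.IsSubnormal.bot
    | insert _ _ ih =>
      rw [sSup_insert]
      have h0 := h _ (Set.mem_insert _ _)
      have h1 := ih (fun U hU => h U (Set.mem_insert_of_mem _ hU))
      exact ⟨sup_le h0.1 h1.1, relSn_sup h0.1 h1.1 h0.2 h1.2⟩
  exact key.2

/-- a relatively subnormal subgroup `S ⊇ A` of an `A`-perfect group `H` is `H`. -/
theorem eq_of_nperf_of_relSn {A S H : Subgroup G} (h : NPerf A H) (hAS : A ≤ S) (hSH : S ≤ H)
    (hsn : RelSn S H) : S = H := by
  have hncl : Subgroup.normalClosure ((A.subgroupOf H : Subgroup ↥H) : Set ↥H) = ⊤ :=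
    (nperf_iff h.1).mpr h
  have key : ∀ S' : Subgroup ↥H, S'.IsSubnormal → A.subgroupOf H ≤ S' → S' = ⊤ := by
    intro S' hS'
    induction hS' with
    | top => intro _; rfl
    | step S' K' hle hK' hN ih =>
      intro hA
      have hK : K' = ⊤ := ih (hA.trans hle)
      subst hK
      have hn : S'.Normal := by
        have := (Subgroup.normal_subgroupOf_iff_le_normalizer hle).mp hN
        exact Subgroup.normalizer_eq_top_iff.mp (top_le_iff.mp this)
      haveI := hn
      have := Subgroup.normalClosure_le_normal (N := S') (s := ((A.subgroupOf H : Subgroup ↥H) : Set ↥H)) hA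
      rw [hncl] at this
      exact top_le_iff.mp this
  have h1 : S.subgroupOf H = ⊤ := key _ hsn (by
    intro x hx
    rw [Subgroup.mem_subgroupOf] at hx ⊢
    exact hAS hx)
  exact le_antisymm hSH (Subgroup.subgroupOf_eq_top.mp h1)

theorem le_normalizer_inf_of_le {N H X : Subgroup G} (hHX : H ≤ X)
    (hX : X ≤ Subgroup.normalizer (N : Set G)) :
    H ≤ Subgroup.normalizer ((N ⊓ H : Subgroup G) : Set G) := by
  intro h hh
  rw [Subgroup.mem_normalizer_iff]
  intro x
  have hN := Subgroup.mem_normalizer_iff.mp (hX (hHX hh)) x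
  constructor
  · rintro ⟨hx1, hx2⟩
    exact ⟨hN.mp hx1, H.mul_mem (H.mul_mem hh hx2) (H.inv_mem hh)⟩
  · rintro ⟨hx1, hx2⟩
    refine ⟨hN.mpr hx1, ?_⟩
    have := H.mul_mem (H.mul_mem (H.inv_mem hh) hx2) hh
    have e : h⁻¹ * (h * x * h⁻¹) * h = x := by group
    rwa [e] at this

/-- the largest `A`-perfect subgroup of `X` exists and is subnormal in `X`. -/
theorem exists_perfect_core [Finite G] {A X : Subgroup G} (hAX : A ≤ X) :
    ∃ K : Subgroup G, NPerf A K ∧ K ≤ X ∧ RelSn K X ∧
      ∀ H : Subgroup G, NPerf A H → H ≤ X → H ≤ K := by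
  induction hn : Nat.card ↥X using Nat.strong_induction_on generalizing X with
  | _ n ih =>
    by_cases hP : NPerf A X
    · refine ⟨X, hP, le_rfl, ?_, fun H _ hH => hH⟩
      show (X.subgroupOf X).IsSubnormal
      rw [Subgroup.subgroupOf_self]
      exact Subgroup.IsSubnormal.top
    · have : ∃ N : Subgroup G, A ≤ N ∧ N ≤ X ∧ X ≤ Subgroup.normalizer (N : Set G) ∧ ¬ X ≤ N := by
        by_contra hcon
        push Not at hcon
        exact hP ⟨hAX, hcon⟩
      obtain ⟨N, hAN, hNX, hXN, hnot⟩ := this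
      have hlt : N < X := lt_of_le_of_ne hNX (fun e => hnot (e ▸ le_rfl))
      have hcard : Nat.card ↥N < n := hn ▸ card_lt_card_of_lt hlt
      obtain ⟨K, hK1, hK2, hK3, hK4⟩ := ih _ hcard hAN rfl
      refine ⟨K, hK1, hK2.trans hNX, ?_, ?_⟩
      · exact relSn_trans hK2 hNX hK3 (relSn_of_le_normalizer hNX hXN)
      · intro H hH hHX
        apply hK4 H hH
        have h1 : H ≤ N ⊓ H :=
          hH.2 (N ⊓ H) (le_inf hAN hH.1) inf_le_right (le_normalizer_inf_of_le hHX hXN)
        exact h1.trans inf_le_left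

theorem lemmaW_aux {X : Type u} [Group X] {S' : Subgroup X} (hS : S'.IsSubnormal) :
    ∀ D' : Subgroup X, S' ≤ D' → D' ≠ ⊤ → ∃ x : X, x ∉ D' ∧ MulAut.conj x • S' ≤ D' := by
  induction hS with
  | top =>
    intro D' hle hne
    exact absurd (top_le_iff.mp hle) hne
  | step S' K' hle hK' hN ih =>
    intro D' hSD hne
    by_cases hKD : K' ≤ D'
    · obtain ⟨x, hx1, hx2⟩ := ih D' hKD hne
      refine ⟨x, hx1, ?_⟩
      intro z hz
      apply hx2
      rw [mem_conj_smul] at hz ⊢
      exact hle hz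
    · obtain ⟨x, hxK, hxD⟩ := SetLike.not_le_iff_exists.mp hKD
      refine ⟨x, hxD, ?_⟩
      have hKn : K' ≤ Subgroup.normalizer (S' : Set X) :=
        (Subgroup.normal_subgroupOf_iff_le_normalizer hle).mp hN
      exact (conj_smul_le_of_mem_normalizer x S' (hKn hxK)).trans hSD

/-- Lemma W: `U sn X`, `U ≤ D < X`: some `x ∈ X ∖ D` has `U^x ≤ D`. -/
theorem lemmaW [Finite G] {U D X : Subgroup G} (hUD : U ≤ D) (hDX : D < X) (hsn : RelSn U X) :
    ∃ x ∈ X, x ∉ D ∧ MulAut.conj x • U ≤ D := by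
  have hUX : U ≤ X := hUD.trans hDX.le
  have hne : D.subgroupOf X ≠ ⊤ := by
    intro h
    exact (not_le_of_gt hDX) (Subgroup.subgroupOf_eq_top.mp h)
  have hle : U.subgroupOf X ≤ D.subgroupOf X := by
    intro x hx
    rw [Subgroup.mem_subgroupOf] at hx ⊢
    exact hUD hx
  obtain ⟨x, hx1, hx2⟩ := lemmaW_aux hsn (D.subgroupOf X) hle hne
  refine ⟨x, x.2, ?_, ?_⟩
  · intro h
    exact hx1 (Subgroup.mem_subgroupOf.mpr h)
  · intro z hz
    have hz' := (mem_conj_smul _ _ _).mp hz
    have hzX : z ∈ X := by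
      have := X.mul_mem (X.mul_mem x.2 (hUX hz')) (X.inv_mem x.2)
      have e : (x : G) * ((x : G)⁻¹ * z * x) * (x : G)⁻¹ = z := by group
      rwa [e] at this
    have h3 : (⟨z, hzX⟩ : ↥X) ∈ MulAut.conj x • U.subgroupOf X := by
      rw [mem_conj_smul, Subgroup.mem_subgroupOf]
      simpa using hz'
    have h4 := hx2 h3
    rw [Subgroup.mem_subgroupOf] at h4
    exact h4

/-- minimal normal subgroup of `R` normalizes every subgroup subnormal in `R`
(relative form of `minNormal_le_normalizer`): if `R ≠ ⊥` there is `N ≠ ⊥`, `N ≤ R`,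
normalizing every `B ≤ R` that is subnormal in `R`. -/
theorem exists_ne_bot_le_normalizer [Finite G] {R : Subgroup G} (hR : R ≠ ⊥) :
    ∃ N : Subgroup G, N ≠ ⊥ ∧ N ≤ R ∧
      ∀ B : Subgroup G, B ≤ R → RelSn B R → N ≤ Subgroup.normalizer (B : Set G) := by
  have htop : (⊤ : Subgroup ↥R) ≠ ⊥ := by
    intro h
    apply hR
    rw [eq_bot_iff]
    intro x hx
    have : (⟨x, hx⟩ : ↥R) ∈ (⊥ : Subgroup ↥R) := h ▸ Subgroup.mem_top _
    rw [Subgroup.mem_bot] at this ⊢
    exact congrArg Subtype.val this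
  obtain ⟨K', hK', -⟩ := exists_isMinNormal_le (⊤ : Subgroup ↥R) inferInstance htop
  refine ⟨K'.map R.subtype, ?_, Subgroup.map_subtype_le K', ?_⟩
  · intro h
    exact hK'.2.1 ((Subgroup.map_eq_bot_iff_of_injective _ R.subtype_injective).mp h)
  · intro B hBR hsn
    have h1 : K' ≤ Subgroup.normalizer ((B.subgroupOf R : Subgroup ↥R) : Set ↥R) :=
      minNormal_le_normalizer hsn hK'
    have h2 := Subgroup.le_normalizer_map (H := B.subgroupOf R) R.subtype
    rw [Subgroup.map_subgroupOf_eq_of_le hBR] at h2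
    exact (Subgroup.map_mono h1).trans h2

end Cfsg.Agent.Lib.Flavell
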