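import Cfsg.Agent.Lib.Flavell.W2

/-! # W3: the unique maximal subgroup `star A` above `YY A` for a bad `A` -/

set_option autoImplicit false

namespace Cfsg.Agent.Lib.Flavell

open scoped Pointwise
open Cfsg.Agent.Lib.Lead.Subnormal

universe u

variable {G : Type u} [Group G]

/-- for a bad `A`, the join `YY A` is proper. -/
theorem W3_YY_ne_top {A : Subgroup G} (h : Bad A) : YY A ≠ ⊤ := fun hY =>
  h.not_concl (Or.inl hY)

/-- `YY A` is relatively subnormal in every proper subgroup containing it. -/
theorem W3_relSn_YY [Finite G] {A : Subgroup G} (hA : A ≠ ⊤) {H : Subgroup G}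
    (hYH : YY A ≤ H) (hH : H ≠ ⊤) : RelSn (YY A) H := by
  have hAH : A ≤ H := (le_YY hA).trans hYH
  obtain ⟨K, hK1, hK2, hK3, hK4⟩ := exists_perfect_core (A := A) (X := H) hAH
  have hKtop : K ≠ ⊤ := by
    intro hK
    apply hH
    rw [eq_top_iff, ← hK]
    exact hK2
  have h1 : K ≤ YY A := le_YY_of_nperf hK1 hKtop
  have h2 : YY A ≤ K := hK4 (YY A) (nperf_YY hA) hYH
  have hEq : K = YY A := le_antisymm h1 h2
  rw [← hEq]
  exact hK3

/-- for a bad `A`, the join `YY A` is not subnormal in `G`. -/
theorem W3_not_isSubnormal_YY {A : Subgroup G} (h : Bad A) : ¬ (YY A).IsSubnormal := by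
  intro hsn
  have h1 : NPerf A ⊤ := (nperf_top_iff A).mpr h.ncl
  have h2 : RelSn (YY A) ⊤ := hsn.comap (⊤ : Subgroup G).subtype
  exact W3_YY_ne_top h (eq_of_nperf_of_relSn h1 (le_YY h.ne_top) le_top h2)

/-- `YY A` is subnormal in every proper subgroup containing it, not subnormal in `G`;
zipper lemma gives the unique coatom. -/
theorem exists_star [Finite G] {A : Subgroup G} (h : Bad A) :
    ∃ M : Subgroup G, IsCoatom M ∧ YY A ≤ M ∧
      ∀ K : Subgroup G, IsCoatom K → YY A ≤ K → K = M := by
  obtain ⟨M, hM, hYM⟩ := (eq_top_or_exists_le_coatom (YY A)).resolve_left (W3_YY_ne_top h)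
  refine ⟨M, hM, hYM, ?_⟩
  intro K hK hYK
  exact zipper (S := YY A) (fun H hYH hH => W3_relSn_YY h.ne_top hYH hH)
    (W3_not_isSubnormal_YY h) hK hM hYK hYM

open Classical in
/-- the coatom above `YY A` (junk value `⊤` if there is none). -/
noncomputable def star (A : Subgroup G) : Subgroup G :=
  if h : ∃ M : Subgroup G, IsCoatom M ∧ YY A ≤ M then h.choose else ⊤

theorem W3_star_spec [Finite G] {A : Subgroup G} (h : Bad A) :
    IsCoatom (star A) ∧ YY A ≤ star A := by
  have hex : ∃ M : Subgroup G, IsCoatom M ∧ YY A ≤ M := by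
    obtain ⟨M, hM, hYM, -⟩ := exists_star h
    exact ⟨M, hM, hYM⟩
  unfold star
  rw [dif_pos hex]
  exact hex.choose_spec

theorem star_isCoatom [Finite G] {A : Subgroup G} (h : Bad A) : IsCoatom (star A) :=
  (W3_star_spec h).1

theorem YY_le_star [Finite G] {A : Subgroup G} (h : Bad A) : YY A ≤ star A :=
  (W3_star_spec h).2

theorem le_star [Finite G] {A : Subgroup G} (h : Bad A) : A ≤ star A :=
  (le_YY h.ne_top).trans (YY_le_star h)

theorem star_unique [Finite G] {A K : Subgroup G} (h : Bad A) (hK : IsCoatom K)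
    (hle : YY A ≤ K) : K = star A := by
  obtain ⟨M, -, -, hM3⟩ := exists_star h
  rw [hM3 K hK hle, hM3 (star A) (star_isCoatom h) (YY_le_star h)]

/-- `star A` is self-normalizing. -/
theorem mem_star_of_conj_eq [Finite G] {A : Subgroup G} (h : Bad A) {g : G}
    (hg : MulAut.conj g • star A = star A) : g ∈ star A := by
  have hM := star_isCoatom h
  have hgN : g ∈ Subgroup.normalizer (star A : Set G) :=
    mem_normalizer_of_conj_smul_le g (star A) (le_of_eq hg)
  have hle : star A ≤ Subgroup.normalizer (star A : Set G) := Subgroup.le_normalizer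
  rcases eq_or_lt_of_le hle with heq | hlt
  · rw [heq]; exact hgN
  · exfalso
    have htop : Subgroup.normalizer (star A : Set G) = ⊤ := hM.2 _ hlt
    have hnorm : (star A).Normal := Subgroup.normalizer_eq_top_iff.mp htop
    have h1 : Subgroup.normalClosure (A : Set G) ≤ star A :=
      Subgroup.normalClosure_le_normal (le_star h)
    rw [h.ncl] at h1
    exact hM.1 (eq_top_iff.mpr h1)

theorem normalizer_le_star [Finite G] {A : Subgroup G} (h : Bad A) :
    Subgroup.normalizer (A : Set G) ≤ star A := by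
  intro g hg
  apply mem_star_of_conj_eq h
  have hA : MulAut.conj g • A = A := conj_smul_eq_of_mem_normalizer g A hg
  have hY : MulAut.conj g • YY A = YY A := by
    rw [← YY_conj, hA]
  have hco : IsCoatom (MulAut.conj g • star A) := isCoatom_conj_smul g (star_isCoatom h)
  have hle : YY A ≤ MulAut.conj g • star A := by
    rw [← hY]
    exact Subgroup.pointwise_smul_le_pointwise_smul_iff.mpr (YY_le_star h)
  exact star_unique h hco hle

theorem star_conj [Finite G] {A : Subgroup G} (h : Bad A) (g : G) :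
    star (MulAut.conj g • A) = MulAut.conj g • star A := by
  have hb : Bad (MulAut.conj g • A) := bad_conj g h
  have hco : IsCoatom (MulAut.conj g • star A) := isCoatom_conj_smul g (star_isCoatom h)
  have hle : YY (MulAut.conj g • A) ≤ MulAut.conj g • star A := by
    rw [YY_conj]
    exact Subgroup.pointwise_smul_le_pointwise_smul_iff.mpr (YY_le_star h)
  exact (star_unique hb hco hle).symm

/-- a bad `A` lies in two different coatoms. -/
theorem exists_two_coatoms [Finite G] {A : Subgroup G} (h : Bad A) :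
    ∃ K K' : Subgroup G, IsCoatom K ∧ IsCoatom K' ∧ K ≠ K' ∧ A ≤ K ∧ A ≤ K' := by
  obtain ⟨K, hK, hAK⟩ := (eq_top_or_exists_le_coatom A).resolve_left h.ne_top
  by_contra hno
  apply h.not_concl
  right
  refine ⟨K, ⟨hK, hAK⟩, ?_⟩
  rintro K' ⟨hK', hAK'⟩
  by_contra hne
  exact hno ⟨K, K', hK, hK', fun e => hne e.symm, hAK, hAK'⟩

end Cfsg.Agent.Lib.Flavell
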