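import Cfsg.Agent.Lib.Flavell.W3

/-! # W4: facts (1) and (3b') for a bad `A` of maximal order -/

set_option autoImplicit false

namespace Cfsg.Agent.Lib.Flavell

open scoped Pointwise
open Cfsg.Agent.Lib.Lead.Subnormal

universe u

variable {G : Type u} [Group G]

/-- if `B` is `A`-perfect then `YY B ≤ YY A`. -/
theorem W4_YY_le {A B : Subgroup G} (h1 : NPerf A B) : YY B ≤ YY A := by
  rw [YY_eq B]
  apply sSup_le
  rintro H ⟨hH1, hH2⟩
  exact le_YY_of_nperf (nperf_trans h1 hH1) hH2

/-- a subgroup lying in two distinct coatoms has no unique coatom above it. -/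
theorem W4_not_unique {C K K' : Subgroup G} (hK : IsCoatom K) (hK' : IsCoatom K')
    (hne : K ≠ K') (hCK : C ≤ K) (hCK' : C ≤ K') :
    ¬ ∃! M : Subgroup G, IsCoatom M ∧ C ≤ M := by
  rintro ⟨M, -, huniq⟩
  exact hne ((huniq K ⟨hK, hCK⟩).trans (huniq K' ⟨hK', hCK'⟩).symm)

theorem W4_ncl_of_le {A B : Subgroup G} (hAB : A ≤ B)
    (h : Subgroup.normalClosure (A : Set G) = ⊤) : Subgroup.normalClosure (B : Set G) = ⊤ := by
  rw [eq_top_iff, ← h]
  exact Subgroup.normalClosure_mono (SetLike.coe_subset_coe.mpr hAB)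

/-- Fact (1): `A` is subnormal in every proper `X ≥ A` not inside `star A`.
Proof: `B :=` perfect core of `X`; if `B ≠ A` then `|B| > |A|`, `YY B ≤ YY A ≠ ⊤`
(`nperf_trans`), so `B` lies in a unique coatom; but `B ≤ YY A ≤ star A` and `B ≤ X ≤` some
coatom, which then is `star A`: contradiction. -/
theorem relSn_of_not_le_star [Finite G] {A X : Subgroup G} (h : Bad A) (hm : MaxHyp A)
    (hAX : A ≤ X) (hX : X ≠ ⊤) (hXM : ¬ X ≤ star A) : RelSn A X := by
  obtain ⟨B, hB1, hB2, hB3, -⟩ := exists_perfect_core (A := A) (X := X) hAX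
  by_cases hBA : B = A
  · rw [← hBA]; exact hB3
  · exfalso
    have hAB : A ≤ B := hB1.1
    have hlt : A < B := lt_of_le_of_ne hAB (fun e => hBA e.symm)
    have hcard : Nat.card ↥A < Nat.card ↥B := card_lt_card_of_lt hlt
    have hBtop : B ≠ ⊤ := by
      intro hB
      apply hX
      rw [eq_top_iff, ← hB]
      exact hB2
    have hBncl : Subgroup.normalClosure (B : Set G) = ⊤ := W4_ncl_of_le hAB h.ncl
    rcases hm B hcard hBncl hBtop with hY | hU
    · apply W3_YY_ne_top h
      rw [eq_top_iff, ← hY]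
      exact W4_YY_le hB1
    · obtain ⟨K, hK, hXK⟩ := (eq_top_or_exists_le_coatom X).resolve_left hX
      have hBstar : B ≤ star A := (le_YY_of_nperf hB1 hBtop).trans (YY_le_star h)
      by_cases hKs : K = star A
      · exact hXM (hKs ▸ hXK)
      · exact W4_not_unique hK (star_isCoatom h) hKs (hB2.trans hXK) hBstar hU

/-- half of fact (3b'). -/
theorem W4_le_of_star_eq [Finite G] {A B L : Subgroup G} (hA : Bad A) (hmA : MaxHyp A)
    (hB : Bad B) (hmB : MaxHyp B) (hs : star A = star B) (hL : IsCoatom L)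
    (hLne : L ≠ star A) (hAL : A ≤ L) (hBL : B ≤ L) : B ≤ A := by
  have hAs : A ≤ star A := le_star hA
  have hBs : B ≤ star A := hs ▸ le_star hB
  have hCL : A ⊔ B ≤ L := sup_le hAL hBL
  have hCs : A ⊔ B ≤ star A := sup_le hAs hBs
  by_contra hBA
  have hlt : A < A ⊔ B := by
    refine lt_of_le_of_ne le_sup_left ?_
    intro e
    apply hBA
    calc B ≤ A ⊔ B := le_sup_right
      _ = A := e.symm
  have hcard : Nat.card ↥A < Nat.card ↥(A ⊔ B : Subgroup G) := card_lt_card_of_lt hlt
  have hCtop : A ⊔ B ≠ ⊤ := by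
    intro hC
    apply hL.1
    rw [eq_top_iff, ← hC]
    exact hCL
  have hCncl : Subgroup.normalClosure ((A ⊔ B : Subgroup G) : Set G) = ⊤ :=
    W4_ncl_of_le le_sup_left hA.ncl
  rcases hmA (A ⊔ B) hcard hCncl hCtop with hY | hU
  · -- every proper `C`-perfect subgroup lies in `star A`
    have hle : YY (A ⊔ B) ≤ star A := by
      rw [YY_eq]
      apply sSup_le
      rintro H ⟨hH1, hH2⟩
      by_contra hHs
      have hCH : A ⊔ B ≤ H := hH1.1
      have h1 : RelSn A H := relSn_of_not_le_star hA hmA (le_sup_left.trans hCH) hH2 hHs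
      have h2 : RelSn B H :=
        relSn_of_not_le_star hB hmB (le_sup_right.trans hCH) hH2 (hs ▸ hHs)
      have h3 : RelSn (A ⊔ B) H :=
        relSn_sup (le_sup_left.trans hCH) (le_sup_right.trans hCH) h1 h2
      have h4 : A ⊔ B = H := eq_of_nperf_of_relSn hH1 le_rfl hCH h3
      exact hHs (h4 ▸ hCs)
    apply (star_isCoatom hA).1
    rw [eq_top_iff, ← hY]
    exact hle
  · exact W4_not_unique hL (star_isCoatom hA) hLne hCL hCs hU

/-- Fact (3b'): two bad subgroups of maximal order with the same star inside a coatom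
`L ≠ star` coincide.
Proof: `C := A ⊔ B ≤ L ⊓ star A`.  If `C ≠ A` then `|C| > |A|`, `Concl C`; `C` lies in two
coatoms so `YY C = ⊤`; but every proper `C`-perfect `H` is `≤ star A` (else `A`, `B` are both
subnormal in `H` by fact (1), so `C` is, so `C = H ≤ star A`).  Hence `C = A`; same for `B`. -/
theorem eq_of_star_eq [Finite G] {A B L : Subgroup G} (hA : Bad A) (hmA : MaxHyp A)
    (hB : Bad B) (hmB : MaxHyp B) (hs : star A = star B) (hL : IsCoatom L)
    (hLne : L ≠ star A) (hAL : A ≤ L) (hBL : B ≤ L) : A = B :=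
  le_antisymm
    (W4_le_of_star_eq hB hmB hA hmA hs.symm hL (hs ▸ hLne) hBL hAL)
    (W4_le_of_star_eq hA hmA hB hmB hs hL hLne hAL hBL)

/-- Fact (3a). -/
theorem inf_star_le_normalizer [Finite G] {A L : Subgroup G} (hA : Bad A) (hmA : MaxHyp A)
    (hL : IsCoatom L) (hLne : L ≠ star A) (hAL : A ≤ L) :
    L ⊓ star A ≤ Subgroup.normalizer (A : Set G) := by
  rintro m ⟨hmL, hmS⟩
  have hB : Bad (MulAut.conj m • A) := bad_conj m hA
  have hmB : MaxHyp (MulAut.conj m • A) := maxHyp_conj m hmA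
  have hstar : star A = star (MulAut.conj m • A) := by
    rw [star_conj hA m]
    exact (conj_smul_eq_of_mem_normalizer m (star A) (Subgroup.le_normalizer hmS)).symm
  have hBL : MulAut.conj m • A ≤ L := by
    have h1 : MulAut.conj m • A ≤ MulAut.conj m • L :=
      Subgroup.pointwise_smul_le_pointwise_smul_iff.mpr hAL
    rwa [conj_smul_eq_of_mem_normalizer m L (Subgroup.le_normalizer hmL)] at h1
  have hEq : A = MulAut.conj m • A := eq_of_star_eq hA hmA hB hmB hstar hL hLne hAL hBL
  exact mem_normalizer_of_conj_smul_le m A (le_of_eq hEq.symm)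

/-- a bad `A` of maximal order lies in a conjugate of `star A` different from `star A`. -/
theorem exists_conj_star_ne [Finite G] {A : Subgroup G} (hA : Bad A) (hmA : MaxHyp A) :
    ∃ x : G, MulAut.conj x • star A ≠ star A ∧ A ≤ MulAut.conj x • star A := by
  obtain ⟨K, K', hK, hK', hne, hAK, hAK'⟩ := exists_two_coatoms hA
  -- a coatom `L ≠ star A` above `A`
  obtain ⟨L, hL, hLne, hAL⟩ : ∃ L : Subgroup G, IsCoatom L ∧ L ≠ star A ∧ A ≤ L := by
    by_cases hKs : K = star A
    · exact ⟨K', hK', fun e => hne (hKs.trans e.symm), hAK'⟩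
    · exact ⟨K, hK, hKs, hAK⟩
  have hLnle : ¬ L ≤ star A := by
    intro hle
    rcases eq_or_lt_of_le hle with e | hlt
    · exact hLne e
    · exact (star_isCoatom hA).1 (hL.2 _ hlt)
  have hsn : RelSn A L := relSn_of_not_le_star hA hmA hAL hL.1 hLnle
  have hAD : A ≤ L ⊓ star A := le_inf hAL (le_star hA)
  have hDL : L ⊓ star A < L := by
    refine lt_of_le_of_ne inf_le_left ?_
    intro e
    apply hLnle
    rw [← e]
    exact inf_le_right
  obtain ⟨x, hxL, hxD, hxA⟩ := lemmaW hAD hDL hsn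
  have hxs : x ∉ star A := fun hx => hxD ⟨hxL, hx⟩
  refine ⟨x⁻¹, ?_, ?_⟩
  · intro e
    have := mem_star_of_conj_eq hA e
    exact hxs (by simpa using (star A).inv_mem this)
  · exact le_conj_inv_smul_of_conj_smul_le (hxA.trans inf_le_right)

end Cfsg.Agent.Lib.Flavell
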