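import Cfsg.Agent.Lib.Flavell.W4

/-! # W5: `star A` is core-free (quotient argument, uses the theorem for smaller groups) -/

set_option autoImplicit false

namespace Cfsg.Agent.Lib.Flavell

open scoped Pointwise
open Cfsg.Agent.Lib.Lead.Subnormal

universe u

variable {G : Type u} [Group G]

/-- image of a coatom containing the kernel under a surjective homomorphism is a coatom. -/
theorem W5_isCoatom_map {G' : Type*} [Group G'] (f : G →* G') (hf : Function.Surjective f)
    {M : Subgroup G} (hM : IsCoatom M) (hker : f.ker ≤ M) : IsCoatom (M.map f) := by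
  have hcm : (M.map f).comap f = M := by
    rw [Subgroup.comap_map_eq]; exact sup_eq_left.mpr hker
  refine ⟨?_, ?_⟩
  · intro h
    apply hM.1
    rw [← hcm, h, Subgroup.comap_top]
  · intro K' hK'
    have h1 : (M.map f).comap f < K'.comap f :=
      (Subgroup.comap_lt_comap_of_surjective hf).mpr hK'
    rw [hcm] at h1
    have h2 := hM.2 _ h1
    rw [← Subgroup.map_comap_eq_self_of_surjective hf K', h2, Subgroup.map_top_of_surjective f hf]

/-- relative subnormality passes to the image under a surjective homomorphism. -/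
theorem W5_relSn_map {G' : Type*} [Group G'] (f : G →* G') (hf : Function.Surjective f)
    {A : Subgroup G} {H' : Subgroup G'} (hA : A ≤ H'.comap f) (h : RelSn A (H'.comap f)) :
    RelSn (A.map f) H' := by
  have hφ := f.subgroupComap_surjective_of_surjective H' hf
  have h1 := Subgroup.IsSubnormal.map hφ h
  have h2 : (A.subgroupOf (H'.comap f)).map (f.subgroupComap H') = (A.map f).subgroupOf H' := by
    ext y
    rw [Subgroup.mem_map, Subgroup.mem_subgroupOf, Subgroup.mem_map]
    constructor
    · rintro ⟨x, hx, rfl⟩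
      exact ⟨x.1, Subgroup.mem_subgroupOf.mp hx, rfl⟩
    · rintro ⟨a, ha, hay⟩
      refine ⟨⟨a, hA ha⟩, Subgroup.mem_subgroupOf.mpr ha, ?_⟩
      apply Subtype.ext
      exact hay
  show ((A.map f).subgroupOf H').IsSubnormal
  rw [← h2]; exact h1

/-- Proof: let `π : G → G ⧸ N`, `Ā = A.map π`; `Ā ≠ ⊤` (as `A ⊔ N ≤ star A`), normal closure `⊤`.
`Ā` lies in the two distinct coatoms `(star A).map π`, `(x • star A).map π`
(`exists_conj_star_ne`; both contain `N`), so `YY Ā = ⊤`.  But every generator `Hq` of `YY Ā` is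
`≤ (star A).map π`: put `H = Hq.comap π` (proper, `⊇ A ⊔ N`).  If `H ≰ star A` then `A sn H`
(fact (1)), so `Ā sn Hq`, and `Hq` being `Ā`-perfect gives `Hq = Ā ≤ (star A).map π`. -/
theorem core_star_eq_bot [Finite G]
    (IH : ∀ (G' : Type u) [Group G'] [Finite G'], Nat.card G' < Nat.card G →
      ∀ A' : Subgroup G', Subgroup.normalClosure (A' : Set G') = ⊤ → A' ≠ ⊤ → Concl A')
    {A : Subgroup G} (hA : Bad A) (hmA : MaxHyp A)
    (N : Subgroup G) (hN : N.Normal) (hle : N ≤ star A) : N = ⊥ := by
  by_contra hNne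
  haveI := hN
  have hπ : Function.Surjective (QuotientGroup.mk' N) := QuotientGroup.mk'_surjective N
  have hker : (QuotientGroup.mk' N).ker = N := QuotientGroup.ker_mk' N
  have hcard : Nat.card (G ⧸ N) < Nat.card G := by
    have h1 : Nat.card G = Nat.card (G ⧸ N) * Nat.card ↥N :=
      Subgroup.card_eq_card_quotient_mul_card_subgroup N
    have h2 : 1 < Nat.card ↥N := by
      rw [Subgroup.one_lt_card_iff_ne_bot]; exact hNne
    have h3 : 0 < Nat.card (G ⧸ N) := Nat.card_pos
    nlinarith
  have hM := star_isCoatom hA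
  have hAM := le_star hA
  have hAqne : A.map (QuotientGroup.mk' N) ≠ ⊤ := by
    intro h
    have h1 : (A.map (QuotientGroup.mk' N)).comap (QuotientGroup.mk' N) = ⊤ := by
      rw [h, Subgroup.comap_top]
    rw [Subgroup.comap_map_eq, hker] at h1
    have h2 : A ⊔ N ≤ star A := sup_le hAM hle
    rw [h1] at h2
    exact hM.1 (top_le_iff.mp h2)
  have hncl : Subgroup.normalClosure
      ((A.map (QuotientGroup.mk' N) : Subgroup (G ⧸ N)) : Set (G ⧸ N)) = ⊤ := by
    have h1 := Subgroup.map_normalClosure (A : Set G) (QuotientGroup.mk' N) hπ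
    rw [hA.ncl, Subgroup.map_top_of_surjective _ hπ] at h1
    rw [Subgroup.coe_map]
    exact h1.symm
  have hconcl := IH (G ⧸ N) hcard (A.map (QuotientGroup.mk' N)) hncl hAqne
  have hM1 : IsCoatom ((star A).map (QuotientGroup.mk' N)) :=
    W5_isCoatom_map _ hπ hM (by rw [hker]; exact hle)
  rcases hconcl with hY | ⟨Mq, -, huniq⟩
  · -- YY Ā ≤ (star A).map π
    have hYle : YY (A.map (QuotientGroup.mk' N)) ≤ (star A).map (QuotientGroup.mk' N) := by
      unfold YY
      apply sSup_le
      rintro Hq ⟨h1, h2, h3⟩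
      have hHne : Hq.comap (QuotientGroup.mk' N) ≠ ⊤ := by
        intro h
        apply h2
        rw [← Subgroup.map_comap_eq_self_of_surjective hπ Hq, h,
          Subgroup.map_top_of_surjective _ hπ]
      have hAH : A ≤ Hq.comap (QuotientGroup.mk' N) := by
        intro a ha
        exact h1 (Subgroup.mem_map_of_mem _ ha)
      by_cases hHM : Hq.comap (QuotientGroup.mk' N) ≤ star A
      · rw [← Subgroup.map_comap_eq_self_of_surjective hπ Hq]
        exact Subgroup.map_mono hHM
      · have hsn : RelSn A (Hq.comap (QuotientGroup.mk' N)) :=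
          relSn_of_not_le_star hA hmA hAH hHne hHM
        have hsn' : RelSn (A.map (QuotientGroup.mk' N)) Hq := W5_relSn_map _ hπ hAH hsn
        have hperf : NPerf (A.map (QuotientGroup.mk' N)) Hq := (nperf_iff h1).mp h3
        have heq := eq_of_nperf_of_relSn hperf le_rfl h1 hsn'
        rw [← heq]
        exact Subgroup.map_mono hAM
    rw [hY] at hYle
    exact hM1.1 (top_le_iff.mp hYle)
  · obtain ⟨x, hx1, hx2⟩ := exists_conj_star_ne hA hmA
    have hNx : N ≤ MulAut.conj x • star A := by
      intro n hn
      rw [mem_conj_smul]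
      apply hle
      have := hN.conj_mem n hn x⁻¹
      simpa using this
    have hM2 : IsCoatom ((MulAut.conj x • star A).map (QuotientGroup.mk' N)) :=
      W5_isCoatom_map _ hπ (isCoatom_conj_smul x hM) (by rw [hker]; exact hNx)
    have e1 := huniq _ ⟨hM1, Subgroup.map_mono hAM⟩
    have e2 := huniq _ ⟨hM2, Subgroup.map_mono hx2⟩
    have e3 : (star A).map (QuotientGroup.mk' N) =
        (MulAut.conj x • star A).map (QuotientGroup.mk' N) := e1.trans e2.symm
    have e4 := congrArg (Subgroup.comap (QuotientGroup.mk' N)) e3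
    rw [Subgroup.comap_map_eq, Subgroup.comap_map_eq, hker, sup_eq_left.mpr hle,
      sup_eq_left.mpr hNx] at e4
    exact hx1 e4.symm

end Cfsg.Agent.Lib.Flavell
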