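import Cfsg.Agent.Lib.Flavell.W5
import Cfsg.Agent.Lib.Flavell.Ec

/-! # W6: assembly — induction on `|G|`, choice of a bad subgroup of maximal order -/

set_option autoImplicit false

namespace Cfsg.Agent.Lib.Flavell

open scoped Pointwise
open Cfsg.Agent.Lib.Lead.Subnormal

universe u

theorem maxHyp_of_max {G : Type u} [Group G] (n : ℕ)
    (hn : ∀ B : Subgroup G, Bad B → Nat.card ↥B ≤ n) {A : Subgroup G}
    (hA : Nat.card ↥A = n) : MaxHyp A := by
  intro B hlt hncl hne
  by_contra hc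
  have := hn B ⟨hncl, hne, hc⟩
  omega

/-- the family of bad subgroups of maximal order satisfies `Data`. -/
theorem data_of_max {G : Type u} [Group G] [Finite G]
    (IH : ∀ (G' : Type u) [Group G'] [Finite G'], Nat.card G' < Nat.card G →
      ∀ A' : Subgroup G', Subgroup.normalClosure (A' : Set G') = ⊤ → A' ≠ ⊤ → Concl A')
    (n : ℕ) (hn : ∀ B : Subgroup G, Bad B → Nat.card ↥B ≤ n) :
    Data {A : Subgroup G | Bad A ∧ Nat.card ↥A = n} star where
  conj_mem A hA g := ⟨bad_conj g hA.1, (card_conj_smul g A).trans hA.2⟩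
  star_conj A hA g := star_conj hA.1 g
  ncl A hA := hA.1.ncl
  star_coatom A hA := star_isCoatom hA.1
  normalizer_le A hA := normalizer_le_star hA.1
  star_selfnorm A hA g hg := mem_star_of_conj_eq hA.1 hg
  relSn A hA X hAX hX hXM :=
    relSn_of_not_le_star hA.1 (maxHyp_of_max n hn hA.2) hAX hX hXM
  eq_of_star A hA B hB hs L hL hLne hAL hBL :=
    eq_of_star_eq hA.1 (maxHyp_of_max n hn hA.2) hB.1 (maxHyp_of_max n hn hB.2) hs hL hLne
      hAL hBL
  core A hA N hN hle := core_star_eq_bot IH hA.1 (maxHyp_of_max n hn hA.2) N hN hle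
  two A hA := exists_two_coatoms hA.1

theorem flavell_aux (n : ℕ) : ∀ (G : Type u) [Group G] [Finite G], Nat.card G = n →
    ∀ A : Subgroup G, Subgroup.normalClosure (A : Set G) = ⊤ → A ≠ ⊤ → Concl A := by
  induction n using Nat.strong_induction_on with
  | _ n ih =>
    intro G _ _ hcard A hA hAG
    by_contra hc
    have hbad : Bad A := ⟨hA, hAG, hc⟩
    have IH : ∀ (G' : Type u) [Group G'] [Finite G'], Nat.card G' < Nat.card G →
        ∀ A' : Subgroup G', Subgroup.normalClosure (A' : Set G') = ⊤ → A' ≠ ⊤ → Concl A' := by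
      intro G' _ _ hlt A' h1 h2
      exact ih (Nat.card G') (hcard ▸ hlt) G' rfl A' h1 h2
    haveI : Nonempty {B : Subgroup G // Bad B} := ⟨⟨A, hbad⟩⟩
    obtain ⟨B, hB⟩ := Finite.exists_max (fun B : {B : Subgroup G // Bad B} => Nat.card ↥B.1)
    have d := data_of_max IH (Nat.card ↥B.1) (fun B' hB' => hB ⟨B', hB'⟩)
    exact d.false ⟨B.1, B.2, rfl⟩

theorem flavell {G : Type u} [Group G] [Finite G] (A : Subgroup G)
    (hA : Subgroup.normalClosure (A : Set G) = ⊤) (hAG : A ≠ ⊤) : Concl A :=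
  flavell_aux _ G rfl A hA hAG

end Cfsg.Agent.Lib.Flavell
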